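import Cfsg.Agent.Lib.KnownB.OreOmegaPlus.BinaryMain
import Mathlib.LinearAlgebra.Matrix.Rank

/-!
Corners over the field with two elements.
-/

set_option autoImplicit false

namespace CfsgLib.KnownB.OreOmegaPlus

open Module Polynomial CfsgLib.KnownB.Sourour CfsgLib.KnownB.OreSp CfsgLib.KnownB.OreOmega

theorem corner_bin_map {K F : Type*} [Field K] [Field F] (f : K →+* F) {ι : Type*} [Fintype ι]
    [DecidableEq ι] {M : Matrix ι ι K} (h : Corner M) : Corner (M.map f) := by
  obtain ⟨Φ, X, P, ⟨Q, ⟨N, hN, rfl⟩, hco⟩, hX, hX0, hP, hP0, haev, hcomm⟩ := h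
  have hdet : ∀ N : Matrix ι ι K, (N.map f).det = f N.det := fun N => (f.map_det N).symm
  refine ⟨Φ.map f, X.map f, P.map f, ⟨(Φ.reflect N).map f, ⟨N, natDegree_map_le.trans hN,
    reflect_map f Φ N⟩, hco.map (mapRingHom f)⟩, ?_, ?_, ?_, ?_, ?_, ?_⟩
  · rw [hdet]; exact hX.map f
  · rw [hdet]; exact (map_ne_zero f).2 hX0
  · rw [hdet]; exact hP.map f
  · rw [hdet]; exact (map_ne_zero f).2 hP0
  · have key : aeval (X.map f) (Φ.map f) = (aeval X Φ).map f := by
      rw [aeval_def, eval₂_map, aeval_def, ← RingHom.mapMatrix_apply, ← RingHom.mapMatrix_apply,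
        hom_eval₂]
      congr 1
      ext r i j
      by_cases hij : i = j
      · simp [hij, Matrix.algebraMap_matrix_apply]
      · simp [hij, Matrix.algebraMap_matrix_apply]
    rw [key, haev, Matrix.map_zero _ (map_zero f)]
  · simp only [← Matrix.map_mul, hcomm]

theorem corner_of_killed {n : ℕ} {M : Matrix (Fin n) (Fin n) (ZMod 2)} {P : (ZMod 2)[X]}
    (hs : Sep P) (h : Killed P (Matrix.toLin' M)) : Corner M := by
  obtain ⟨T, hP⟩ := h
  have h1 : ∀ x : ZMod 2, x ≠ 0 → x = 1 := by decide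
  have hd : LinearMap.det T.L = 1 := by
    refine h1 _ fun h0 => ?_
    have := congrArg LinearMap.det T.h1
    rw [map_mul, h0, zero_mul, map_one] at this
    exact zero_ne_one this
  have he : LinearMap.det T.e.toLinearMap = 1 := h1 _ T.e.isUnit_det'.ne_zero
  have haev : aeval T.L P = Matrix.toLin' (aeval (LinearMap.toMatrix' T.L) P) := by
    have h := Polynomial.aeval_algHom_apply (Matrix.toLinAlgEquiv'.toAlgHom)
      (LinearMap.toMatrix' T.L) P
    change aeval (Matrix.toLin' (LinearMap.toMatrix' T.L)) P = _ at h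
    rw [Matrix.toLin'_toMatrix'] at h
    exact h
  refine ⟨P, LinearMap.toMatrix' T.L, LinearMap.toMatrix' T.e.toLinearMap, hs.apart, ?_, ?_, ?_,
    ?_, ?_, ?_⟩
  · rw [LinearMap.det_toMatrix', hd]; exact IsSquare.one
  · rw [LinearMap.det_toMatrix', hd]; exact one_ne_zero
  · rw [LinearMap.det_toMatrix', he]; exact IsSquare.one
  · rw [LinearMap.det_toMatrix', he]; exact one_ne_zero
  · apply Matrix.toLin'.injective
    rw [← haev, hP, map_zero]
  · apply Matrix.toLin'.injective
    simp only [Matrix.toLin'_mul, Matrix.toLin'_toMatrix']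
    refine LinearMap.ext fun v => ?_
    simp only [LinearMap.comp_apply, LinearEquiv.coe_coe]
    rw [LinearMap.congr_fun T.hA (T.e (T.L v)), Module.End.mul_apply, LinearEquiv.conj_apply_apply,
      T.e.symm_apply_apply, ← Module.End.mul_apply T.Li, T.h2, Module.End.one_apply]

/-- Dimension at least three, over `ZMod 2`. -/
theorem corner_zmod_two {n : ℕ} (hn : 3 ≤ n) (M : Matrix (Fin n) (Fin n) (ZMod 2))
    (hd : M.det = 1) (hM : 6 ≤ n ∨ M = 1 ∨
      2 ≤ finrank (ZMod 2) (LinearMap.range (Matrix.toLin' M - 1))) : Corner M := by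
  have hV : finrank (ZMod 2) (Fin n → ZMod 2) = n := by simp
  have hdet : LinearMap.det (Matrix.toLin' M) = 1 := by rw [LinearMap.det_toLin', hd]
  rcases Nat.lt_or_ge n 6 with h6 | h6
  · have hA : Matrix.toLin' M = 1 ∨
        2 ≤ finrank (ZMod 2) (LinearMap.range (Matrix.toLin' M - 1)) := by
      rcases hM with h | rfl | h
      · omega
      · exact Or.inl Matrix.toLin'_one
      · exact Or.inr h
    interval_cases n
    · exact corner_of_killed sep_k3 (base_bin_three hV _ hdet hA)
    · exact corner_of_killed sep_k4 (base_bin_four hV _ hdet hA)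
    · exact corner_of_killed sep_k5 (base_bin_five hV _ hdet hA)
  · obtain ⟨P, hs, -, h⟩ := good_bin_main n hV h6 _ hdet
    exact corner_of_killed hs h

theorem rank_map_le_one {F : Type*} [Field F] {n : ℕ} (f : ZMod 2 →+* F)
    (N : Matrix (Fin n) (Fin n) (ZMod 2))
    (h : finrank (ZMod 2) (LinearMap.range (Matrix.toLin' N - 1)) ≤ 1) :
    (N.map f - 1).rank ≤ 1 := by
  obtain ⟨⟨u, hu⟩, hu'⟩ := finrank_le_one_iff.1 h
  choose c hc using fun j =>
    hu' ⟨_, LinearMap.mem_range_self (Matrix.toLin' N - 1) (Pi.single j 1)⟩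
  have : N.map f - 1 = Matrix.vecMulVec (fun i => f (u i)) (fun j => f (c j)) := by
    ext i j
    have h2 := congrFun (congrArg Subtype.val (hc j)) i
    simp [Pi.single_apply] at h2
    simp [Matrix.vecMulVec_apply, Matrix.one_apply, ← map_mul, mul_comm (u i), h2, apply_ite f]
  rw [this]
  exact Matrix.rank_vecMulVec_le _ _

/-- Corners over two elements, apart from the small transvections. -/
theorem corner_two {F : Type*} [Field F] [Fintype F] (h2 : Fintype.card F = 2) {n : ℕ}
    (hn : 3 ≤ n) (M : Matrix (Fin n) (Fin n) F) (hd : M.det = 1)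
    (hM : 6 ≤ n ∨ M = 1 ∨ 2 ≤ (M - 1).rank) : Corner M := by
  let f : ZMod 2 ≃+* F := ZMod.ringEquivOfPrime F Nat.prime_two h2
  have hf : (M.map f.symm).map f.toRingHom = M := by ext i j; simp
  rw [← hf]
  refine corner_bin_map _ (corner_zmod_two hn _ ?_ ?_)
  · rw [← RingEquiv.coe_toRingHom, ← RingHom.mapMatrix_apply, ← RingHom.map_det, hd, map_one]
  · rcases hM with h | rfl | h
    · exact Or.inl h
    · exact Or.inr (Or.inl (Matrix.map_one _ (map_zero _) (map_one _)))
    · refine Or.inr (Or.inr (not_lt.1 fun hlt => ?_))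
      have := rank_map_le_one f.toRingHom _ (Nat.lt_succ_iff.1 hlt)
      rw [hf] at this
      omega

end CfsgLib.KnownB.OreOmegaPlus
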