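import Cfsg.Agent.Lib.KnownB.OreOmega.Big

/-!
The corner property over fields of even order at least four.
-/

set_option autoImplicit false

namespace CfsgLib.KnownB.OreOmegaPlus

open Matrix Polynomial Module CfsgLib.KnownB.Sourour CfsgLib.KnownB.OreSp CfsgLib.KnownB.OreOmega

variable {F : Type*} [Field F] {K V : Type*} [Field K] [AddCommGroup V] [Module K V] {t d : K}

theorem two_zero [Fintype F] (heven : Fintype.card F % 2 = 0) : (2 : F) = 0 := by
  have := ringChar.charP F
  have h := FiniteField.even_card_iff_char_two.2 heven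
  have : CharP F 2 := h ▸ this
  exact CharP.cast_eq_zero F 2

/-- Squaring is onto in characteristic two. -/
theorem sq_surj [Finite K] (h2 : (2 : K) = 0) (a : K) : ∃ b : K, b * b = a := by
  refine Finite.surjective_of_injective (f := fun b : K => b * b) (fun x y h => ?_) a
  have h' : (x - y) * (x - y) = 0 := by linear_combination h + (y * y - x * y) * h2
  exact sub_eq_zero.1 (mul_self_eq_zero.1 h')

/-- A plane endomorphism with `A - 1` invertible is a product of two quadratic ones. -/
theorem pairs_plane_even [Fintype K] (h2K : (2 : K) = 0)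
    [FiniteDimensional K V] (h2 : finrank K V = 2) (M : End K V) (hdet : LinearMap.det M = 1)
    (hr : 2 ≤ finrank K (LinearMap.range (M - 1))) (hns : ¬ ∃ l : K, M = l • (1 : End K V))
    (hq : NoRoot t d) : Nonempty (Pairs M 0 (qp t d) (qp (t / d) (1 / d))) := by
  obtain ⟨v, hv0, hv⟩ := exists_not_eigen M hns
  have hd : d ≠ 0 := fun h => hq 0 (by rw [h]; ring)
  have hli : LinearIndependent K ![v, M v] := by
    rw [LinearIndependent.pair_iff' hv0]
    exact fun l hl => hv l hl.symm
  let B := basisOfLinearIndependentOfCardEqFinrank hli (by simp [h2])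
  have hB : ⇑B = ![v, M v] := coe_basisOfLinearIndependentOfCardEqFinrank hli _
  have hM0 : M (B 0) = B 1 := by rw [hB]; rfl
  obtain ⟨s, τ, hM1⟩ : ∃ s τ : K, M (B 1) = s • B 0 + τ • B 1 :=
    ⟨B.repr (M (B 1)) 0, B.repr (M (B 1)) 1, by
      conv_lhs => rw [← B.sum_repr (M (B 1)), Fin.sum_univ_two]⟩
  have hs : s = -1 := by
    have h : -s = 1 := by
      rw [← hdet, ← LinearMap.det_toMatrix B, Matrix.det_fin_two]
      simp only [LinearMap.toMatrix_apply, hM0, hM1, map_add, map_smul, B.repr_self,
        Finsupp.coe_add, Finsupp.coe_smul, Pi.add_apply, Pi.smul_apply, smul_eq_mul]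
      simp
    linear_combination -h
  subst hs
  have hτ : τ ≠ 2 := fun h => by
    have hinj : Function.Injective ⇑(M - (1 : End K V)) := by
      rw [← LinearMap.ker_eq_bot]
      have := (M - 1).finrank_range_add_finrank_ker
      exact Submodule.finrank_eq_zero.1 (by omega)
    have h0 : (M - 1) (B 1 - B 0) = 0 := by
      simp only [LinearMap.sub_apply, Module.End.one_apply, map_sub, hM0, hM1, h]
      module
    have h1 : B 1 - B 0 = 0 := hinj (h0.trans (map_zero _).symm)
    simpa using congrArg (fun z => B.repr z 1) h1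
  obtain ⟨a, ha⟩ : ∃ a : K, a * τ = t := ⟨t / τ, div_mul_cancel₀ t (h2K ▸ hτ)⟩
  obtain ⟨b, hb⟩ := sq_surj h2K (a * (t - a) - d)
  have hbe : b * (b + t - a * τ) = a * (t - a) - d := by rw [ha, add_sub_cancel_right, hb]
  obtain ⟨e, hedef⟩ : ∃ e : K, e = b + t - a * τ := ⟨_, rfl⟩
  rw [← hedef] at hbe
  let L : End K V := B.constr K ![a • B 0 + e • B 1, b • B 0 + (t - a) • B 1]
  let U : End K V := B.constr K ![(-b / d) • B 0 + (a / d) • B 1,
    ((-(t - a) - b * τ) / d) • B 0 + ((e + a * τ) / d) • B 1]
  have hL0 : L (B 0) = a • B 0 + e • B 1 := by simp [L]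
  have hL1 : L (B 1) = b • B 0 + (t - a) • B 1 := by simp [L]
  have hU0 : U (B 0) = (-b / d) • B 0 + (a / d) • B 1 := by simp [U]
  have hU1 : U (B 1) = ((-(t - a) - b * τ) / d) • B 0 + ((e + a * τ) / d) • B 1 := by simp [U]
  have hLd : a * (t - a) - b * e = d := by linear_combination -hbe
  have hqL : aeval L (qp t d) = 0 := B.ext fun i => by
    rw [aeval_qp, LinearMap.zero_apply]
    fin_cases i
    · simp only [Fin.zero_eta, hL0, hL1, map_add, map_smul]
      match_scalars <;> grind
    · simp only [Fin.mk_one, hL0, hL1, map_add, map_smul]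
      match_scalars <;> grind
  have hqU : aeval U (qp (t / d) (1 / d)) = 0 := B.ext fun i => by
    rw [aeval_qp, LinearMap.zero_apply]
    fin_cases i
    · simp only [Fin.zero_eta, hU0, hU1, map_add, map_smul]
      match_scalars <;> field_simp <;> grind
    · simp only [Fin.mk_one, hU0, hU1, map_add, map_smul]
      match_scalars <;> field_simp <;> grind
  refine ⟨{ L := L, U := U, hmul := B.ext fun i => ?_,
            hLq := (fun v => by rw [hqL]; rfl), hUq := (fun v => by rw [hqU]; rfl),
            hLe := ⟨B 0, B.ne_zero 0, by rw [hqL]; rfl⟩,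
            hUe := ⟨B 0, B.ne_zero 0, by rw [hqU]; rfl⟩ }⟩
  rw [Module.End.mul_apply]
  fin_cases i
  · simp only [Fin.zero_eta, hM0, hU0, map_add, map_smul, hL0, hL1]
    match_scalars <;> field_simp <;> grind
  · simp only [Fin.mk_one, hM1, hU1, map_add, map_smul, hL0, hL1]
    match_scalars <;> field_simp <;> grind

/-- Chains followed by a quadratic pair. -/
theorem pairData_even [Fintype K] (h2K : (2 : K) = 0)
    (h4 : 4 ≤ ENat.card K) (hq : NoRoot t d) (m : ℕ) :
    ∀ {V : Type*} [AddCommGroup V] [Module K V] [FiniteDimensional K V],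
      finrank K V = m + 2 → 1 ≤ m → ∀ A : End K V, LinearMap.det A = 1 →
      2 ≤ finrank K (LinearMap.range (A - 1)) → (¬ ∃ l : K, A = l • (1 : End K V)) →
      ∀ (b : V) (c : Dual K V), b ≠ 0 → c ≠ 0 →
        Nonempty (PairData A m (qp t d) (qp (t / d) (1 / d)) b c) := by
  have hd : d ≠ 0 := fun h => hq 0 (by rw [h]; ring)
  have hp : (qp t d).eval 1 ≠ 0 := by rw [eval_qp]; exact hq 1
  have hr1 : (qp (t / d) (1 / d)).eval 1 ≠ 0 := by
    rw [eval_qp]
    intro h
    refine hq 1 ?_
    field_simp at h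
    linear_combination h
  induction m with
  | zero => intro V _ _ _ _ h; omega
  | succ m ih =>
    intro V _ _ _ hn _ A hdet hr hns b c hb hc
    obtain ⟨s, hr', hns'⟩ := exists_step h4 A (by omega) hdet hr hns b hb c hc
    have hk : finrank K (LinearMap.ker s.φ) = m + 2 := by
      have := finrank_ker_form s.hx
      omega
    have hd' : LinearMap.det s.next = 1 := (det_schur A s.x s.φ s.hx s.hA).trans hdet
    by_cases hm : m = 0
    · subst hm
      obtain ⟨F⟩ := pairs_plane_even h2K hk s.next hd' hr' hns' hq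
      exact ⟨F.liftStart hp hr1⟩
    · obtain ⟨F⟩ := ih hk (by omega) s.next hd' hr' hns' s.col s.row s.col_ne_zero s.row_ne_zero
      exact ⟨F.lift (by omega) hr1⟩

/-- A quadratic without roots with prescribed constant and non-zero middle term. -/
theorem exists_noRoot_even [Fintype F] (h2 : (2 : F) = 0) {d : F} (hd : d ≠ 0) : ∃ t : F, t ≠ 0 ∧ NoRoot t d := by
  classical
  by_contra hall
  push Not at hall
  simp only [NoRoot, not_forall, not_not] at hall
  choose x hx using hall
  let f : {t : F // t ≠ 0} → {y : F // y ≠ 0} := fun t =>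
    ⟨x t.1 t.2, fun h => hd (by have := hx t.1 t.2; rw [h] at this; linear_combination this)⟩
  have key : ∀ t : {t : F // t ≠ 0}, t.1 = (f t).1 + d / (f t).1 := fun t => by
    have h1 := hx t.1 t.2
    have h2 := (f t).2
    change t.1 = x t.1 t.2 + d / x t.1 t.2
    change x t.1 t.2 ≠ 0 at h2
    field_simp
    linear_combination -h1
  have hinj : Function.Injective f := fun a b e => Subtype.ext (by rw [key a, key b, e])
  obtain ⟨y, hy⟩ := sq_surj h2 d
  have hy0 : y ≠ 0 := fun h => hd (by rw [← hy, h, mul_zero])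
  obtain ⟨t, ht⟩ := Finite.surjective_of_injective hinj ⟨y, hy0⟩
  refine t.2 ((key t).trans ?_)
  rw [ht]
  field_simp
  linear_combination y * y * h2 - hy

/-- The corner property over fields of even order at least four. -/
theorem corner_even [Fintype F] (heven : Fintype.card F % 2 = 0) (h4 : 4 ≤ Fintype.card F) {n : ℕ} (hn : 3 ≤ n)
    (M : Matrix (Fin n) (Fin n) F) (hM : M.det = 1) (hns : M = 1 ∨ ¬ ∃ l : F, M = l • 1) :
    Corner M := by
  classical
  obtain ⟨m, rfl⟩ : ∃ m, n = 2 + m := ⟨n - 2, by omega⟩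
  have h2 : (2 : F) = 0 := two_zero heven
  have h4' : 4 ≤ ENat.card F := by
    rw [ENat.card_eq_coe_fintype_card]; exact_mod_cast h4
  obtain ⟨c, hc⟩ := exists_scalar h4' {0, 1, -1} Finset.card_le_three
  simp only [Finset.mem_insert, Finset.mem_singleton, not_or] at hc
  have hcc : c * c ≠ 1 := fun h => (mul_self_eq_one_iff.1 h).elim hc.2.1 hc.2.2
  obtain ⟨d, hd0, hd1⟩ : ∃ d : F, d ≠ 0 ∧ c * c * d ≠ 1 := ⟨1, one_ne_zero, by rwa [mul_one]⟩
  obtain ⟨t, -, hq⟩ := exists_noRoot_even h2 hd0
  have sq : ∀ x : F, IsSquare x := fun x =>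
    let ⟨y, hy⟩ := sq_surj h2 x
    ⟨y, hy.symm⟩
  have hΦ : Apart ((Polynomial.X - Polynomial.C c) ^ m * qp (c * t) (c * c * d)) := by
    refine apart_big hcc (fun x hx => hq (x / c) ?_) hd1 m
    have := hc.1
    field_simp
    linear_combination hx
  by_cases hbig : 2 ≤ finrank F (LinearMap.range (toLin' M - 1))
  · -- regular factors
    set A := toLin' M with hA
    have hdA : LinearMap.det A = 1 := by rw [hA, LinearMap.det_toLin', hM]
    have hnsA : ¬ ∃ l : F, A = l • (1 : End F (Fin (2 + m) → F)) := by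
      rintro ⟨l, hl⟩
      have hMl : M = l • 1 := Matrix.toLin'.injective (by
        rw [map_smul, Matrix.toLin'_one, ← Module.End.one_eq_id, ← hA, hl])
      rcases hns with h | h
      · rw [hA, h, Matrix.toLin'_one, ← Module.End.one_eq_id, sub_self, LinearMap.range_zero,
          finrank_bot] at hbig
        omega
      · exact h ⟨l, hMl⟩
    let i0 : Fin (2 + m) := ⟨0, by omega⟩
    have hb : (Pi.single i0 (1 : F) : Fin (2 + m) → F) ≠ 0 := fun h =>
      (one_ne_zero : (1 : F) ≠ 0) (by simpa using congrFun h i0)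
    have hcf : (LinearMap.proj i0 : Dual F (Fin (2 + m) → F)) ≠ 0 := fun h =>
      (one_ne_zero : (1 : F) ≠ 0) (by simpa using LinearMap.congr_fun h (Pi.single i0 (1 : F)))
    obtain ⟨D⟩ := pairData_even h2 h4' hq m (V := Fin (2 + m) → F) (by simp; omega) (by omega) A
      hdA hbig hnsA _ _ hb hcf
    obtain ⟨hL⟩ := D.formL (by simp; omega) (by omega)
    obtain ⟨hU⟩ := D.formU (by simp; omega)
    have hLd := hL.det_eq hq
    have hbij : Function.Bijective D.L := (Module.End.isUnit_iff D.L).1
      ((LinearMap.isUnit_iff_isUnit_det D.L).2 (by rw [hLd]; exact isUnit_iff_ne_zero.2 hd0))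
    let E := LinearEquiv.ofBijective D.L hbij
    let Li : End F (Fin (2 + m) → F) := E.symm.toLinearMap
    have h1 : D.L * Li = 1 := LinearMap.ext fun v => E.apply_symm_apply v
    have h2' : Li * D.L = 1 := LinearMap.ext fun v => E.symm_apply_apply v
    have hq' : NoRoot (t / d) (1 / d) := fun x hx => by
      have hx0 : x ≠ 0 := fun e => by rw [e] at hx; simp [hd0] at hx
      refine hq x⁻¹ ?_
      field_simp at hx ⊢
      linear_combination hx
    obtain ⟨e, he⟩ := (hL.inv hd0 Li h1 h2').conj hU hq'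
    set P : End F (Fin (2 + m) → F) := e.toLinearMap with hP
    have hPL : A * (P * D.L) = D.L * P := by
      have he' : e.toLinearMap * Li = D.U * e.toLinearMap := LinearMap.ext he
      calc A * (P * D.L) = D.L * D.U * (P * D.L) := congrArg (· * (P * D.L)) D.hmul
        _ = D.L * (D.U * e.toLinearMap) * D.L := by rw [hP]; simp only [mul_assoc]
        _ = D.L * (e.toLinearMap * Li) * D.L := by rw [he']
        _ = D.L * P := by simp only [mul_assoc]; rw [h2', mul_one, hP]
    refine ⟨_, c • LinearMap.toMatrix' D.L, LinearMap.toMatrix' P, hΦ, sq _, ?_, sq _, ?_, ?_, ?_⟩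
    · rw [det_smul, Fintype.card_fin, LinearMap.det_toMatrix', hLd]
      exact mul_ne_zero (pow_ne_zero _ hc.1) hd0
    · rw [LinearMap.det_toMatrix']; exact (LinearEquiv.isUnit_det' e).ne_zero
    · refine aeval_smul_form _ c t d m ?_
      have h0 : aeval D.L (qp t d) * (D.L - 1) ^ m = 0 := LinearMap.ext fun v => D.hLq v
      have h0' := congrArg (LinearMap.toMatrixAlgEquiv' (R := F) (n := Fin (2 + m))) h0
      rw [map_mul, map_pow, map_sub, map_one, map_zero] at h0'
      rw [aeval_toMatrix]
      exact h0'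
    · have h' := congrArg LinearMap.toMatrix' hPL
      have hAM : LinearMap.toMatrix' A = M := LinearMap.toMatrix'_toLin' M
      rw [LinearMap.toMatrix'_mul A, LinearMap.toMatrix'_mul P, LinearMap.toMatrix'_mul D.L P, hAM] at h'
      simp only [Matrix.mul_smul, Matrix.smul_mul]
      exact congrArg (c • ·) h'
  · -- transvections and the identity
    set C0 : Matrix (Fin 2) (Fin 2) F := !![0, -d; 1, t] with hC0
    set X0 : Matrix (Fin 2 ⊕ Fin m) (Fin 2 ⊕ Fin m) F := fromBlocks C0 0 0 1 with hX0
    have hC : C0 * C0 - t • C0 + d • 1 = 0 := by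
      rw [hC0]; ext i j
      fin_cases i <;> fin_cases j <;> simp <;> ring
    have hXz : aeval X0 (qp t d) * (X0 - 1) ^ m = 0 := by
      have hone : X0 - 1 = fromBlocks (C0 - 1) 0 0 0 := by
        rw [hX0, ← fromBlocks_one, sub_eq_add_neg, fromBlocks_neg, fromBlocks_add]
        simp [sub_eq_add_neg]
      rw [hone, fromBlocks_diagonal_pow, hX0, aeval_fromBlocks, fromBlocks_multiply]
      have : aeval C0 (qp t d) = 0 := by
        simpa [qp, pow_two, Algebra.algebraMap_eq_smul_one] using hC
      rw [this, zero_pow (by omega)]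
      simp
    have hXd : X0.det = d := by
      rw [hX0, det_fromBlocks_zero₂₁, det_one, mul_one, hC0, det_fin_two_of]; ring
    have base : ∀ B : Matrix (Fin 2) (Fin m) F, ∀ Z : Matrix (Fin 2) (Fin m) F,
        B = (C0 - 1) * Z → Corner (fromBlocks 1 B 0 1) := by
      intro B Z hB
      refine ⟨_, c • X0, fromBlocks 1 Z 0 1, hΦ, sq _, ?_, sq _, ?_, aeval_smul_form X0 c t d m hXz, ?_⟩
      · rw [det_smul, hXd]; exact mul_ne_zero (pow_ne_zero _ hc.1) hd0
      · rw [det_fromBlocks_zero₂₁, det_one, det_one, mul_one]; exact one_ne_zero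
      · rw [Matrix.mul_smul, Matrix.mul_smul, Matrix.smul_mul]
        congr 1
        rw [hX0, hB, fromBlocks_multiply, fromBlocks_multiply, fromBlocks_multiply]
        simp [Matrix.sub_mul]
    let σ : Fin 2 ⊕ Fin m ≃ Fin (2 + m) := finSumFinEquiv
    by_cases h1 : M = 1
    · have := (base 0 0 (by rw [Matrix.mul_zero])).reindex σ
      rw [fromBlocks_one] at this
      simpa [h1] using this
    set A := toLin' M with hA
    obtain ⟨f, u, hf, hu, hfu, hAt⟩ := exists_transvection A
      (by rw [hA, LinearMap.det_toLin', hM])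
      (fun h => h1 (Matrix.toLin'.injective (by
        rw [Matrix.toLin'_one, ← Module.End.one_eq_id, ← hA, h]))) (by omega)
    let j0 : Fin m := ⟨0, by omega⟩
    let Z0 : Matrix (Fin 2) (Fin m) F := Matrix.single 0 j0 1
    let M0 : Matrix (Fin (2 + m)) (Fin (2 + m)) F :=
      Matrix.reindex σ σ (fromBlocks 1 ((C0 - 1) * Z0) 0 1)
    have hM0 : Corner M0 := (base _ Z0 rfl).reindex σ
    let u₀ : Fin (2 + m) → F := fun i => Sum.elim (fun a => (C0 - 1) a 0) 0 (σ.symm i)
    let f₀ : Dual F (Fin (2 + m) → F) := LinearMap.proj (σ (Sum.inr j0))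
    have hf₀ : f₀ ≠ 0 := fun h => (one_ne_zero : (1 : F) ≠ 0) (by
      simpa [f₀] using LinearMap.congr_fun h (Pi.single (σ (Sum.inr j0)) (1 : F)))
    have hu₀ : u₀ ≠ 0 := fun h => (one_ne_zero : (1 : F) ≠ 0) (by
      have := congrFun h (σ (Sum.inl 1))
      simpa [u₀, hC0] using this)
    have hfu₀ : f₀ u₀ = 0 := by simp [f₀, u₀]
    have hM0t : toLin' M0 = LinearMap.transvection f₀ u₀ := LinearMap.ext fun v => funext fun i => by
      rw [LinearMap.transvection.apply, toLin'_apply]
      simp only [M0, f₀, LinearMap.proj_apply, Pi.add_apply, Pi.smul_apply, smul_eq_mul]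
      obtain ⟨a, rfl⟩ := σ.surjective i
      simp only [Matrix.mulVec, dotProduct, reindex_apply, submatrix_apply, Equiv.symm_apply_apply]
      rw [← σ.sum_comp, Fintype.sum_sum_type]
      rcases a with a | a
      · simp [u₀, Z0, Matrix.one_apply, Matrix.mul_apply, Matrix.single_apply, ite_and,
          Finset.sum_ite_eq, mul_comm]
      · simp [u₀, Matrix.one_apply]
    obtain ⟨e, he⟩ := transvection_conj f₀ f u₀ u hf₀ hf hu₀ hu hfu₀ hfu
    set Q := LinearMap.toMatrix' e.toLinearMap
    set Qi := LinearMap.toMatrix' e.symm.toLinearMap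
    have hQ : M * Q = Q * M0 := by
      have h' : A * e.toLinearMap = e.toLinearMap * toLin' M0 := LinearMap.ext fun v => by
        rw [hAt, hM0t]; exact (he v).symm
      have h'' := congrArg LinearMap.toMatrix' h'
      rwa [LinearMap.toMatrix'_mul, LinearMap.toMatrix'_mul, hA, LinearMap.toMatrix'_toLin',
        LinearMap.toMatrix'_toLin'] at h''
    have hQQ : Q * Qi = 1 := by
      rw [← LinearMap.toMatrix'_mul, Module.End.mul_eq_comp, LinearEquiv.comp_coe,
        LinearEquiv.symm_trans_self, LinearEquiv.refl_toLinearMap, LinearMap.toMatrix'_id]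
    have := hM0.conj Q Qi hQQ (mul_eq_one_comm.1 hQQ)
    rwa [← hQ, Matrix.mul_assoc, hQQ, Matrix.mul_one] at this

end CfsgLib.KnownB.OreOmegaPlus
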