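import Cfsg.Agent.Lib.KnownB.OreOmega.DefsPlus
import Cfsg.Agent.Lib.KnownB.Thompson.PlusForm
import Cfsg.Agent.Lib.KnownB.Sourour.Final

/-!
Invariants in the split orthogonal groups over every field, and fixed-point-free Levi elements.
-/

set_option autoImplicit false

namespace CfsgLib.KnownB.OreOmegaPlus

open Matrix QuadraticMap CfsgLib.Thompson CfsgLib.Geometry CfsgLib.KnownB.OreSp

variable {F : Type*} [Field F] {m : ℕ}

/-- The split form in dimension other than four is a good form over every field. -/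
theorem good_form (hm : m ≠ 2) : GoodForm (qP m F) := by
  have hnd : (polarBilin (qP m F)).Nondegenerate := nondegenerate_matQuad
    (by rw [det_plus_gram]; exact pow_ne_zero _ (neg_ne_zero.2 one_ne_zero))
  refine ⟨hnd, reflGroup_eq_orth hnd (Or.inl ?_)⟩
  rw [Module.finrank_fintype_fun_eq_card, Fintype.card_sum, Fintype.card_fin]
  omega

/-- All corners in one hypothesis. -/
def Corners (m : ℕ) (F : Type*) [Field F] : Prop :=
  ∀ M : Matrix (Fin m) (Fin m) F, M.det = 1 → (M = 1 ∨ ¬ ∃ l : F, M = l • 1) →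
    CfsgLib.KnownB.OreOmega.Corner M

/-- All corners of the weaker kind in one hypothesis. -/
def CornersPlus (m : ℕ) (F : Type*) [Field F] : Prop :=
  ∀ M : Matrix (Fin m) (Fin m) F, M.det = 1 → (M = 1 ∨ ¬ ∃ l : F, M = l • 1) →
    CfsgLib.KnownB.OreOmega.CornerPlus M

/-- Corners give the weaker kind. -/
theorem Corners.plus (h : Corners m F) : CornersPlus m F := fun M hd hM =>
  CfsgLib.KnownB.OreOmega.Corner.plus (h M hd hM)

/-- Injectivity of the twisted action on alternating forms gives surjectivity on them. -/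
theorem exists_stein_alt [Finite F] {A : Matrix (Fin m) (Fin m) F}
    (hinj : ∀ T : Matrix (Fin m) (Fin m) F, IsA false T → A * T * Aᵀ = T → T = 0)
    {S : Matrix (Fin m) (Fin m) F} (hS : IsA false S) :
    ∃ S₀, IsA false S₀ ∧ A * S₀ * Aᵀ - S₀ = S := by
  classical
  have hclos : ∀ T : Matrix (Fin m) (Fin m) F, IsA false T → IsA false (A * T * Aᵀ - T) := by
    intro T hT
    have h1 : IsA false (A * T * Aᵀ) := by
      have h := hT.congr Aᵀ
      rwa [transpose_transpose] at h
    refine ⟨?_, fun hs i => ?_⟩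
    · rw [transpose_sub, h1.1, hT.1]
      simp; abel
    · rw [Matrix.sub_apply, h1.2 hs i, hT.2 hs i, sub_zero]
  let f : {T : Matrix (Fin m) (Fin m) F // IsA false T} →
      {T : Matrix (Fin m) (Fin m) F // IsA false T} := fun T => ⟨_, hclos T.1 T.2⟩
  have hf : Function.Injective f := by
    intro T T' h
    have h' : A * T.1 * Aᵀ - T.1 = A * T'.1 * Aᵀ - T'.1 := congrArg Subtype.val h
    have hTT : IsA false (T.1 - T'.1) := by
      refine ⟨?_, fun hs i => ?_⟩
      · rw [transpose_sub, T.2.1, T'.2.1]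
        simp; abel
      · rw [Matrix.sub_apply, T.2.2 hs i, T'.2.2 hs i, sub_zero]
    refine Subtype.ext (sub_eq_zero.1 (hinj _ hTT ?_))
    rw [Matrix.mul_sub, Matrix.sub_mul]
    linear_combination (norm := abel) h'
  obtain ⟨S₀, hS₀⟩ := Finite.surjective_of_injective hf ⟨S, hS⟩
  exact ⟨S₀.1, S₀.2, congrArg Subtype.val hS₀⟩

/-- Injectivity of the twisted action on forms gives surjectivity on alternating matrices. -/
theorem exists_stein [Finite F] {A : Matrix (Fin m) (Fin m) F}
    (hinj : ∀ T : Matrix (Fin m) (Fin m) F, A * T * Aᵀ = T → T = 0)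
    {S : Matrix (Fin m) (Fin m) F} (hS : IsA false S) :
    ∃ S₀, IsA false S₀ ∧ A * S₀ * Aᵀ - S₀ = S :=
  exists_stein_alt (fun T _ => hinj T) hS

/-- A matrix moving alternating forms moves them as a twist. -/
theorem fixed_eq_zero_alt {A : Matrix (Fin m) (Fin m) F} (h : CfsgLib.KnownB.OreOmega.MovesAlt A)
    (T : Matrix (Fin m) (Fin m) F) (hT : IsA false T) (e : A * T * Aᵀ = T) : T = 0 :=
  h.2 T ⟨hT.1, hT.2 rfl⟩ e

/-- The contragredient moves them too. -/
theorem fixed_eq_zero_alt_ti (M : GL (Fin m) F) (h : CfsgLib.KnownB.OreOmega.MovesAlt M.1)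
    (T : Matrix (Fin m) (Fin m) F) (hT : IsA false T) (e : (ti M).1 * T * (ti M).1ᵀ = T) :
    T = 0 := by
  refine h.1 T ⟨hT.1, hT.2 rfl⟩ ?_
  conv_lhs => rw [← e]
  simp only [ti_val, transpose_transpose, Matrix.mul_assoc]
  rw [← Matrix.mul_assoc M.1ᵀ, ← transpose_mul, Units.inv_mul, transpose_one, Matrix.one_mul,
    Matrix.mul_one]

/-- A matrix killed by an apart polynomial fixes no form. -/
theorem fixed_eq_zero {Φ : Polynomial F} (hΦ : Apart Φ) {A : Matrix (Fin m) (Fin m) F}
    (hA : IsUnit A.det) (hz : Polynomial.aeval A Φ = 0) (T : Matrix (Fin m) (Fin m) F)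
    (h : A * T * Aᵀ = T) : T = 0 := by
  refine eq_zero_of_form hΦ (A := Aᵀ) (isUnit_det_transpose _ hA) ?_ (by rwa [transpose_transpose])
  rw [aeval_transpose, hz, transpose_zero]

/-- The contragredient fixes no form either. -/
theorem fixed_eq_zero_ti {Φ : Polynomial F} (hΦ : Apart Φ) (M : GL (Fin m) F)
    (hz : Polynomial.aeval M.1 Φ = 0) (T : Matrix (Fin m) (Fin m) F)
    (h : (ti M).1 * T * (ti M).1ᵀ = T) : T = 0 := by
  refine eq_zero_of_form hΦ ((Matrix.isUnit_iff_isUnit_det _).1 M.isUnit) hz ?_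
  conv_lhs => rw [← h]
  simp only [ti_val, transpose_transpose, Matrix.mul_assoc]
  rw [← Matrix.mul_assoc M.1ᵀ, ← transpose_mul, Units.inv_mul, transpose_one, Matrix.one_mul,
    Matrix.mul_one]

variable [Fintype F] (hF : GoodForm (qP m F))

include hF

/-- Special linear images have trivial invariant. -/
theorem invt_sl (hm : 3 ≤ m) {M : GL (Fin m) F} (hM : M.1.det = 1) :
    hF.invt (levO m F M) = 1 := by
  obtain ⟨a, b, e⟩ := Sourour.commutator_all (show 2 ≤ m by omega) (fun h => by omega)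
    (⟨M.1, hM⟩ : Matrix.SpecialLinearGroup (Fin m) F)
  have e' : M = Matrix.SpecialLinearGroup.toGL a * Matrix.SpecialLinearGroup.toGL b *
      (Matrix.SpecialLinearGroup.toGL a)⁻¹ * (Matrix.SpecialLinearGroup.toGL b)⁻¹ := by
    rw [← map_inv, ← map_inv, ← map_mul, ← map_mul, ← map_mul, ← e]
    exact Units.ext rfl
  rw [e']
  simp only [map_mul (levO m F), map_inv (levO m F)]
  exact hF.invt_commutator _ _

/-- The invariant of a Levi element. -/
theorem invt_levi (hm : 3 ≤ m) (M : GL (Fin m) F) {d : F} (hd : d ≠ 0) (e : M.1.det = d) :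
    hF.invt (levO m F M) = (sqMk hd, 1) := by
  set j : Fin m := ⟨0, by omega⟩
  have hdet : (diagonal (Function.update (1 : Fin m → F) j d)).det = d := by
    rw [det_diagonal, Finset.prod_update_of_mem (Finset.mem_univ _)]; simp
  set D := Matrix.GeneralLinearGroup.mkOfDetNeZero _ (hdet.trans_ne hd) with hDdef
  have hD : D.1 = diagonal (Function.update (1 : Fin m → F) j d) := rfl
  have h1 : (M * D⁻¹).1.det = 1 := by
    have h2 : (M * D⁻¹).1.det * D.1.det = M.1.det := by
      rw [← det_mul, ← Units.val_mul, inv_mul_cancel_right]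
    rw [hD, hdet, e] at h2
    exact mul_right_cancel₀ hd (h2.trans (one_mul d).symm)
  rw [← inv_mul_cancel_right M D, map_mul, map_mul, invt_sl hF hm h1, one_mul,
    invt_diag hF j hd hD]

/-- Levi elements of square determinant have trivial invariant. -/
theorem invt_levi_square (hm : 3 ≤ m) (M : GL (Fin m) F) (h : IsSquare M.1.det) :
    hF.invt (levO m F M) = 1 := by
  rw [invt_levi hF hm M ((Matrix.isUnit_iff_isUnit_det _).1 M.isUnit).ne_zero rfl,
    (sqMk_eq_one_iff _).2 h]
  rfl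

/-- Unipotent elements have trivial invariant. -/
theorem invt_unip_alt {Z : GL (Fin m) F} (hZ : CfsgLib.KnownB.OreOmega.MovesAlt Z.1) {S : Matrix (Fin m) (Fin m) F} (hS : IsA false S) :
    hF.invt ⟨upM S, Spec.plus.upM_mem.2 hS⟩ = 1 ∧ hF.invt ⟨loM S, Spec.plus.loM_mem.2 hS⟩ = 1 := by
  constructor
  · obtain ⟨X, hX, hXS⟩ := exists_stein_alt (fixed_eq_zero_alt hZ) hS
    let b : Cfsg.isometryGroup F ⇑(qP m F) := ⟨upM X, Spec.plus.upM_mem.2 hX⟩
    rw [show (⟨upM S, _⟩ : Cfsg.isometryGroup F ⇑(qP m F)) =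
      levO m F Z * b * (levO m F Z)⁻¹ * b⁻¹ from ?_]
    · exact hF.invt_commutator _ _
    refine Subtype.ext (eq_mul_inv_of_mul_eq ?_)
    show upM S * upM X = levH F m Z * upM X * (levH F m Z)⁻¹
    rw [levH_conj_up, upM_mul]
    congr 1
    rw [← hXS]; abel
  · obtain ⟨X, hX, hXS⟩ := exists_stein_alt (fixed_eq_zero_alt_ti Z hZ) hS
    let b : Cfsg.isometryGroup F ⇑(qP m F) := ⟨loM X, Spec.plus.loM_mem.2 hX⟩
    rw [show (⟨loM S, _⟩ : Cfsg.isometryGroup F ⇑(qP m F)) =
      levO m F Z * b * (levO m F Z)⁻¹ * b⁻¹ from ?_]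
    · exact hF.invt_commutator _ _
    refine Subtype.ext (eq_mul_inv_of_mul_eq ?_)
    show loM S * loM X = levH F m Z * loM X * (levH F m Z)⁻¹
    rw [levH_conj_lo, loM_mul]
    congr 1
    rw [← hXS]; abel

/-- Unipotent elements have trivial invariant, from an apart polynomial. -/
theorem invt_unip {Z : GL (Fin m) F} {Φ : Polynomial F} (hΦ : Apart Φ)
    (hz : Polynomial.aeval Z.1 Φ = 0) {S : Matrix (Fin m) (Fin m) F} (hS : IsA false S) :
    hF.invt ⟨upM S, Spec.plus.upM_mem.2 hS⟩ = 1 ∧ hF.invt ⟨loM S, Spec.plus.loM_mem.2 hS⟩ = 1 :=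
  invt_unip_alt hF ⟨fun T _ h => eq_zero_of_form hΦ ((Matrix.isUnit_iff_isUnit_det _).1 Z.isUnit) hz h,
    fun T _ h => fixed_eq_zero hΦ ((Matrix.isUnit_iff_isUnit_det _).1 Z.isUnit) hz T h⟩ hS

end CfsgLib.KnownB.OreOmegaPlus
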