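import Cfsg.Agent.Lib.KnownB.OreOmega.ThreeSplit
import Cfsg.Agent.Lib.KnownB.OreOmega.ThreeSep

/-!
Polynomials over the field with two elements coprime to their reversals.
-/

set_option autoImplicit false

namespace CfsgLib.KnownB.OreOmegaPlus

open Polynomial CfsgLib.KnownB.OreSp CfsgLib.KnownB.OreOmega

theorem poly_two_zero : (2 : (ZMod 2)[X]) = 0 := by
  rw [← map_ofNat C 2, show (2 : ZMod 2) = 0 from rfl, map_zero]

/-- A polynomial coprime to its reversal, of degree 3. -/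
noncomputable def k3 : (ZMod 2)[X] := X ^ 3 + X + 1

theorem sep_k3 : Sep k3 := by
  refine sep_of_apart ⟨X ^ 3 + X ^ 2 + 1, ⟨3, by rw [k3]; compute_degree, ?_⟩,
    X, X + 1, ?_⟩ (by simp [k3])
  · simp [k3, reflect_add, reflect_monomial, reflect_one_eq, reflect_X_eq, revAt_le]
    ring
  · simp only [k3]
    linear_combination (X ^ 4 + X ^ 3 + X ^ 2 + X : (ZMod 2)[X]) * poly_two_zero

theorem natDegree_k3 : k3.natDegree ≤ 3 := by rw [k3]; compute_degree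

/-- A polynomial coprime to its reversal, of degree 4. -/
noncomputable def k4 : (ZMod 2)[X] := X ^ 4 + X + 1

theorem sep_k4 : Sep k4 := by
  refine sep_of_apart ⟨X ^ 4 + X ^ 3 + 1, ⟨4, by rw [k4]; compute_degree, ?_⟩,
    X ^ 3 + X + 1, X ^ 3 + X ^ 2, ?_⟩ (by simp [k4])
  · simp [k4, reflect_add, reflect_monomial, reflect_one_eq, reflect_X_eq, revAt_le]
    ring
  · simp only [k4]
    linear_combination (X ^ 7 + X ^ 6 + X ^ 5 + X ^ 4 + X ^ 3 + X ^ 2 + X : (ZMod 2)[X]) * poly_two_zero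

theorem natDegree_k4 : k4.natDegree ≤ 4 := by rw [k4]; compute_degree

/-- A polynomial coprime to its reversal, of degree 5. -/
noncomputable def k5 : (ZMod 2)[X] := X ^ 5 + X ^ 2 + 1

theorem sep_k5 : Sep k5 := by
  refine sep_of_apart ⟨X ^ 5 + X ^ 3 + 1, ⟨5, by rw [k5]; compute_degree, ?_⟩,
    X ^ 2 + X, X ^ 2 + X + 1, ?_⟩ (by simp [k5])
  · simp [k5, reflect_add, reflect_monomial, reflect_one_eq, reflect_X_eq, revAt_le]
    ring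
  · simp only [k5]
    linear_combination (X ^ 7 + X ^ 6 + X ^ 5 + X ^ 4 + X ^ 3 + X ^ 2 + X : (ZMod 2)[X]) * poly_two_zero

theorem natDegree_k5 : k5.natDegree ≤ 5 := by rw [k5]; compute_degree

/-- A polynomial coprime to its reversal, of degree 6. -/
noncomputable def k6 : (ZMod 2)[X] := X ^ 6 + X + 1

theorem sep_k6 : Sep k6 := by
  refine sep_of_apart ⟨X ^ 6 + X ^ 5 + 1, ⟨6, by rw [k6]; compute_degree, ?_⟩,
    X ^ 4 + X ^ 2 + X, X ^ 4 + X ^ 3 + X + 1, ?_⟩ (by simp [k6])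
  · simp [k6, reflect_add, reflect_monomial, reflect_one_eq, reflect_X_eq, revAt_le]
    ring
  · simp only [k6]
    linear_combination (X ^ 10 + X ^ 9 + X ^ 8 + X ^ 7 + X ^ 6 + X ^ 5 + X ^ 4 + X ^ 3 + X ^ 2 + X : (ZMod 2)[X]) * poly_two_zero

theorem natDegree_k6 : k6.natDegree ≤ 6 := by rw [k6]; compute_degree

/-- A polynomial coprime to its reversal, of degree 6. -/
noncomputable def k6t : (ZMod 2)[X] := X ^ 6 + X ^ 2 + 1

theorem sep_k6t : Sep k6t := by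
  refine sep_of_apart ⟨X ^ 6 + X ^ 4 + 1, ⟨6, by rw [k6t]; compute_degree, ?_⟩,
    X ^ 2, X ^ 2 + 1, ?_⟩ (by simp [k6t])
  · simp [k6t, reflect_add, reflect_monomial, reflect_one_eq, reflect_X_eq, revAt_le]
    ring
  · simp only [k6t]
    linear_combination (X ^ 8 + X ^ 6 + X ^ 4 + X ^ 2 : (ZMod 2)[X]) * poly_two_zero

theorem natDegree_k6t : k6t.natDegree ≤ 6 := by rw [k6t]; compute_degree

/-- A polynomial coprime to its reversal, of degree 7. -/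
noncomputable def k7 : (ZMod 2)[X] := X ^ 7 + X + 1

theorem sep_k7 : Sep k7 := by
  refine sep_of_apart ⟨X ^ 7 + X ^ 6 + 1, ⟨7, by rw [k7]; compute_degree, ?_⟩,
    X ^ 6 + X ^ 4 + X ^ 3 + X + 1, X ^ 6 + X ^ 5 + X ^ 3 + X ^ 2, ?_⟩ (by simp [k7])
  · simp [k7, reflect_add, reflect_monomial, reflect_one_eq, reflect_X_eq, revAt_le]
    ring
  · simp only [k7]
    linear_combination (X ^ 13 + X ^ 12 + X ^ 11 + X ^ 10 + X ^ 9 + X ^ 8 + X ^ 7 + X ^ 6 + X ^ 5 + X ^ 4 + X ^ 3 + X ^ 2 + X : (ZMod 2)[X]) * poly_two_zero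

theorem natDegree_k7 : k7.natDegree ≤ 7 := by rw [k7]; compute_degree

/-- A polynomial coprime to its reversal, of degree 7. -/
noncomputable def k7t : (ZMod 2)[X] := X ^ 7 + X ^ 5 + X ^ 3 + X ^ 2 + 1

theorem sep_k7t : Sep k7t := by
  refine sep_of_apart ⟨X ^ 7 + X ^ 5 + X ^ 4 + X ^ 2 + 1, ⟨7, by rw [k7t]; compute_degree, ?_⟩,
    X ^ 6 + X ^ 4 + X ^ 2 + X + 1, X ^ 6 + X ^ 4 + X ^ 3 + X, ?_⟩ (by simp [k7t])
  · simp [k7t, reflect_add, reflect_monomial, reflect_one_eq, reflect_X_eq, revAt_le]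
    ring
  · simp only [k7t]
    linear_combination (X ^ 13 + (2) * X ^ 11 + X ^ 10 + (2) * X ^ 9 + (3) * X ^ 8 + (2) * X ^ 7 + (3) * X ^ 6 + (2) * X ^ 5 + (2) * X ^ 4 + (2) * X ^ 3 + X ^ 2 + X : (ZMod 2)[X]) * poly_two_zero

theorem natDegree_k7t : k7t.natDegree ≤ 7 := by rw [k7t]; compute_degree

/-- A polynomial coprime to its reversal, of degree 8. -/
noncomputable def k8 : (ZMod 2)[X] := X ^ 8 + X ^ 4 + X ^ 3 + X ^ 2 + 1

theorem sep_k8 : Sep k8 := by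
  refine sep_of_apart ⟨X ^ 8 + X ^ 6 + X ^ 5 + X ^ 4 + 1, ⟨8, by rw [k8]; compute_degree, ?_⟩,
    X ^ 5 + X ^ 3 + X ^ 2 + 1, X ^ 5, ?_⟩ (by simp [k8])
  · simp [k8, reflect_add, reflect_monomial, reflect_one_eq, reflect_X_eq, revAt_le]
    ring
  · simp only [k8]
    linear_combination (X ^ 13 + X ^ 11 + X ^ 10 + X ^ 9 + X ^ 8 + X ^ 7 + X ^ 6 + (2) * X ^ 5 + X ^ 4 + X ^ 3 + X ^ 2 : (ZMod 2)[X]) * poly_two_zero

theorem natDegree_k8 : k8.natDegree ≤ 8 := by rw [k8]; compute_degree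

/-- A polynomial coprime to its reversal, of degree 8. -/
noncomputable def k8t : (ZMod 2)[X] := X ^ 8 + X ^ 2 + 1

theorem sep_k8t : Sep k8t := by
  refine sep_of_apart ⟨X ^ 8 + X ^ 6 + 1, ⟨8, by rw [k8t]; compute_degree, ?_⟩,
    X ^ 6 + X ^ 2 + 1, X ^ 6 + X ^ 4, ?_⟩ (by simp [k8t])
  · simp [k8t, reflect_add, reflect_monomial, reflect_one_eq, reflect_X_eq, revAt_le]
    ring
  · simp only [k8t]
    linear_combination (X ^ 14 + X ^ 12 + X ^ 10 + X ^ 8 + X ^ 6 + X ^ 4 + X ^ 2 : (ZMod 2)[X]) * poly_two_zero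

theorem natDegree_k8t : k8t.natDegree ≤ 8 := by rw [k8t]; compute_degree

/-- A polynomial coprime to its reversal, of degree 9. -/
noncomputable def k9 : (ZMod 2)[X] := X ^ 9 + X ^ 4 + 1

theorem sep_k9 : Sep k9 := by
  refine sep_of_apart ⟨X ^ 9 + X ^ 5 + 1, ⟨9, by rw [k9]; compute_degree, ?_⟩,
    X ^ 4 + X ^ 3 + X ^ 2 + X, X ^ 4 + X ^ 3 + X ^ 2 + X + 1, ?_⟩ (by simp [k9])
  · simp [k9, reflect_add, reflect_monomial, reflect_one_eq, reflect_X_eq, revAt_le]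
    ring
  · simp only [k9]
    linear_combination (X ^ 13 + X ^ 12 + X ^ 11 + X ^ 10 + X ^ 9 + X ^ 8 + X ^ 7 + X ^ 6 + X ^ 5 + X ^ 4 + X ^ 3 + X ^ 2 + X : (ZMod 2)[X]) * poly_two_zero

theorem natDegree_k9 : k9.natDegree ≤ 9 := by rw [k9]; compute_degree

/-- A polynomial coprime to its reversal, of degree 9. -/
noncomputable def k9t : (ZMod 2)[X] := X ^ 9 + X ^ 5 + X ^ 4 + X ^ 3 + X ^ 2 + X + 1

theorem sep_k9t : Sep k9t := by
  refine sep_of_apart ⟨X ^ 9 + X ^ 8 + X ^ 7 + X ^ 6 + X ^ 5 + X ^ 4 + 1, ⟨9, by rw [k9t]; compute_degree, ?_⟩,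
    X ^ 7 + X ^ 2, X ^ 7 + X ^ 6 + X ^ 3 + X ^ 2 + 1, ?_⟩ (by simp [k9t])
  · simp [k9t, reflect_add, reflect_monomial, reflect_one_eq, reflect_X_eq, revAt_le]
    ring
  · simp only [k9t]
    linear_combination (X ^ 16 + X ^ 15 + X ^ 14 + X ^ 13 + (2) * X ^ 12 + (3) * X ^ 11 + (2) * X ^ 10 + (2) * X ^ 9 + (2) * X ^ 8 + (3) * X ^ 7 + (2) * X ^ 6 + X ^ 5 + X ^ 4 + X ^ 3 + X ^ 2 : (ZMod 2)[X]) * poly_two_zero

theorem natDegree_k9t : k9t.natDegree ≤ 9 := by rw [k9t]; compute_degree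

/-- A polynomial coprime to its reversal, of degree 10. -/
noncomputable def k10 : (ZMod 2)[X] := X ^ 10 + X ^ 7 + X ^ 6 + X ^ 5 + X ^ 4 + X ^ 2 + 1

theorem sep_k10 : Sep k10 := by
  refine sep_of_apart ⟨X ^ 10 + X ^ 8 + X ^ 6 + X ^ 5 + X ^ 4 + X ^ 3 + 1, ⟨10, by rw [k10]; compute_degree, ?_⟩,
    X ^ 9 + X ^ 8 + X ^ 2, X ^ 9 + X ^ 8 + X ^ 7 + X ^ 3 + X ^ 2 + 1, ?_⟩ (by simp [k10])
  · simp [k10, reflect_add, reflect_monomial, reflect_one_eq, reflect_X_eq, revAt_le]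
    ring
  · simp only [k10]
    linear_combination (X ^ 19 + X ^ 18 + X ^ 17 + X ^ 16 + (2) * X ^ 15 + (2) * X ^ 14 + (3) * X ^ 13 + (3) * X ^ 12 + (2) * X ^ 11 + (2) * X ^ 10 + (2) * X ^ 9 + (3) * X ^ 8 + (2) * X ^ 7 + (2) * X ^ 6 + X ^ 5 + X ^ 4 + X ^ 3 + X ^ 2 : (ZMod 2)[X]) * poly_two_zero

theorem natDegree_k10 : k10.natDegree ≤ 10 := by rw [k10]; compute_degree

/-- A polynomial coprime to its reversal, of degree 10. -/
noncomputable def k10t : (ZMod 2)[X] := X ^ 10 + X ^ 7 + X ^ 4 + X ^ 3 + X ^ 2 + X + 1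

theorem sep_k10t : Sep k10t := by
  refine sep_of_apart ⟨X ^ 10 + X ^ 9 + X ^ 8 + X ^ 7 + X ^ 6 + X ^ 3 + 1, ⟨10, by rw [k10t]; compute_degree, ?_⟩,
    X ^ 5 + X ^ 4 + X ^ 3, X ^ 5 + 1, ?_⟩ (by simp [k10t])
  · simp [k10t, reflect_add, reflect_monomial, reflect_one_eq, reflect_X_eq, revAt_le]
    ring
  · simp only [k10t]
    linear_combination (X ^ 15 + X ^ 14 + X ^ 13 + X ^ 12 + X ^ 11 + X ^ 10 + X ^ 9 + (2) * X ^ 8 + (2) * X ^ 7 + (2) * X ^ 6 + (2) * X ^ 5 + X ^ 4 + X ^ 3 : (ZMod 2)[X]) * poly_two_zero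

theorem natDegree_k10t : k10t.natDegree ≤ 10 := by rw [k10t]; compute_degree

/-- A polynomial coprime to its reversal, of degree 11. -/
noncomputable def k11 : (ZMod 2)[X] := X ^ 11 + X ^ 9 + X ^ 8 + X ^ 7 + X ^ 6 + X ^ 3 + X ^ 2 + X + 1

theorem sep_k11 : Sep k11 := by
  refine sep_of_apart ⟨X ^ 11 + X ^ 10 + X ^ 9 + X ^ 8 + X ^ 5 + X ^ 4 + X ^ 3 + X ^ 2 + 1, ⟨11, by rw [k11]; compute_degree, ?_⟩,
    X ^ 7 + X ^ 3 + X ^ 2 + X + 1, X ^ 7 + X ^ 6 + X ^ 5 + X ^ 2, ?_⟩ (by simp [k11])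
  · simp [k11, reflect_add, reflect_monomial, reflect_one_eq, reflect_X_eq, revAt_le]
    ring
  · simp only [k11]
    linear_combination (X ^ 18 + X ^ 17 + (2) * X ^ 16 + (2) * X ^ 15 + (2) * X ^ 14 + (2) * X ^ 13 + (2) * X ^ 12 + (3) * X ^ 11 + (4) * X ^ 10 + (4) * X ^ 9 + (3) * X ^ 8 + (3) * X ^ 7 + (2) * X ^ 6 + (2) * X ^ 5 + (2) * X ^ 4 + (2) * X ^ 3 + (2) * X ^ 2 + X : (ZMod 2)[X]) * poly_two_zero

theorem natDegree_k11 : k11.natDegree ≤ 11 := by rw [k11]; compute_degree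

/-- A polynomial coprime to its reversal, of degree 11. -/
noncomputable def k11t : (ZMod 2)[X] := X ^ 11 + X ^ 9 + X ^ 8 + X ^ 5 + X ^ 2 + X + 1

theorem sep_k11t : Sep k11t := by
  refine sep_of_apart ⟨X ^ 11 + X ^ 10 + X ^ 9 + X ^ 6 + X ^ 3 + X ^ 2 + 1, ⟨11, by rw [k11t]; compute_degree, ?_⟩,
    X ^ 10 + X ^ 9 + X ^ 7 + X ^ 6 + X ^ 3 + X ^ 2, X ^ 10 + X ^ 7 + X ^ 6 + X ^ 3 + 1, ?_⟩ (by simp [k11t])
  · simp [k11t, reflect_add, reflect_monomial, reflect_one_eq, reflect_X_eq, revAt_le]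
    ring
  · simp only [k11t]
    linear_combination (X ^ 21 + X ^ 20 + X ^ 19 + (2) * X ^ 18 + (2) * X ^ 17 + (2) * X ^ 16 + (2) * X ^ 15 + (2) * X ^ 14 + (2) * X ^ 13 + (3) * X ^ 12 + (3) * X ^ 11 + (3) * X ^ 10 + (3) * X ^ 9 + (2) * X ^ 8 + (2) * X ^ 7 + (2) * X ^ 6 + X ^ 5 + X ^ 4 + (2) * X ^ 3 + X ^ 2 : (ZMod 2)[X]) * poly_two_zero

theorem natDegree_k11t : k11t.natDegree ≤ 11 := by rw [k11t]; compute_degree

/-- A polynomial coprime to its reversal, of degree 12. -/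
noncomputable def k12 : (ZMod 2)[X] := X ^ 12 + X ^ 10 + X ^ 9 + X ^ 7 + X ^ 5 + X ^ 4 + X ^ 3 + X + 1

theorem sep_k12 : Sep k12 := by
  refine sep_of_apart ⟨X ^ 12 + X ^ 11 + X ^ 9 + X ^ 8 + X ^ 7 + X ^ 5 + X ^ 3 + X ^ 2 + 1, ⟨12, by rw [k12]; compute_degree, ?_⟩,
    X ^ 8 + X ^ 6 + X ^ 5 + X ^ 2 + X, X ^ 8 + X ^ 7 + X ^ 6 + X ^ 4 + X ^ 3 + X ^ 2 + X + 1, ?_⟩ (by simp [k12])
  · simp [k12, reflect_add, reflect_monomial, reflect_one_eq, reflect_X_eq, revAt_le]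
    ring
  · simp only [k12]
    linear_combination (X ^ 20 + X ^ 19 + (2) * X ^ 18 + (2) * X ^ 17 + (2) * X ^ 16 + (4) * X ^ 15 + (3) * X ^ 14 + (4) * X ^ 13 + (4) * X ^ 12 + (5) * X ^ 11 + (4) * X ^ 10 + (5) * X ^ 9 + (4) * X ^ 8 + (3) * X ^ 7 + (4) * X ^ 6 + (3) * X ^ 5 + (2) * X ^ 4 + (2) * X ^ 3 + (2) * X ^ 2 + X : (ZMod 2)[X]) * poly_two_zero

theorem natDegree_k12 : k12.natDegree ≤ 12 := by rw [k12]; compute_degree

/-- A polynomial coprime to its reversal, of degree 12. -/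
noncomputable def k12t : (ZMod 2)[X] := X ^ 12 + X ^ 10 + X ^ 9 + X ^ 8 + X ^ 7 + X ^ 5 + X ^ 4 + X ^ 3 + 1

theorem sep_k12t : Sep k12t := by
  refine sep_of_apart ⟨X ^ 12 + X ^ 9 + X ^ 8 + X ^ 7 + X ^ 5 + X ^ 4 + X ^ 3 + X ^ 2 + 1, ⟨12, by rw [k12t]; compute_degree, ?_⟩,
    X ^ 11 + X ^ 10 + X ^ 9 + X ^ 7 + X ^ 6 + X ^ 3 + X ^ 2 + 1, X ^ 11 + X ^ 10 + X ^ 8 + X ^ 5 + X ^ 2, ?_⟩ (by simp [k12t])
  · simp [k12t, reflect_add, reflect_monomial, reflect_one_eq, reflect_X_eq, revAt_le]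
    ring
  · simp only [k12t]
    linear_combination (X ^ 23 + X ^ 22 + X ^ 21 + (2) * X ^ 20 + (3) * X ^ 19 + (3) * X ^ 18 + (3) * X ^ 17 + (3) * X ^ 16 + (4) * X ^ 15 + (5) * X ^ 14 + (4) * X ^ 13 + (4) * X ^ 12 + (4) * X ^ 11 + (5) * X ^ 10 + (3) * X ^ 9 + (2) * X ^ 8 + (3) * X ^ 7 + (2) * X ^ 6 + (2) * X ^ 5 + X ^ 4 + X ^ 3 + X ^ 2 : (ZMod 2)[X]) * poly_two_zero

theorem natDegree_k12t : k12t.natDegree ≤ 12 := by rw [k12t]; compute_degree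

theorem coprime_k10 : IsCoprime k4 k6 :=
  ⟨X ^ 5 + X ^ 2 + X + 1, X ^ 3, by
    simp only [k4, k6]
    linear_combination (X ^ 9 + X ^ 6 + X ^ 5 + X ^ 4 + X ^ 3 + X ^ 2 + X : (ZMod 2)[X]) * poly_two_zero⟩

theorem mul_k10 : k4 * k6 = k10 := by
  simp only [k4, k6, k10]
  linear_combination (X : (ZMod 2)[X]) * poly_two_zero

theorem coprime_k10t : IsCoprime k4 k6t :=
  ⟨X ^ 3 + 1, X, by
    simp only [k4, k6t]
    linear_combination (X ^ 7 + X ^ 4 + X ^ 3 + X : (ZMod 2)[X]) * poly_two_zero⟩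

theorem mul_k10t : k4 * k6t = k10t := by
  simp only [k4, k6t, k10t]
  linear_combination (X ^ 6 : (ZMod 2)[X]) * poly_two_zero

theorem coprime_k11 : IsCoprime k3 k8 :=
  ⟨X ^ 7 + X ^ 4 + X ^ 3, X ^ 2 + 1, by
    simp only [k3, k8]
    linear_combination (X ^ 10 + X ^ 8 + X ^ 7 + X ^ 6 + X ^ 5 + (2) * X ^ 4 + X ^ 3 + X ^ 2 : (ZMod 2)[X]) * poly_two_zero⟩

theorem mul_k11 : k3 * k8 = k11 := by
  simp only [k3, k8, k11]
  linear_combination (X ^ 5 + X ^ 4 + X ^ 3 : (ZMod 2)[X]) * poly_two_zero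

theorem coprime_k11t : IsCoprime k3 k8t :=
  ⟨X ^ 7 + X ^ 5 + X ^ 4 + X ^ 3 + X + 1, X ^ 2, by
    simp only [k3, k8t]
    linear_combination (X ^ 10 + X ^ 8 + X ^ 7 + X ^ 6 + X ^ 5 + (2) * X ^ 4 + X ^ 3 + X ^ 2 + X : (ZMod 2)[X]) * poly_two_zero⟩

theorem mul_k11t : k3 * k8t = k11t := by
  simp only [k3, k8t, k11t]
  linear_combination (X ^ 3 : (ZMod 2)[X]) * poly_two_zero

theorem coprime_k12 : IsCoprime k3 k9 :=
  ⟨X ^ 8 + X ^ 7 + X ^ 6 + X ^ 2 + 1, X ^ 2 + X, by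
    simp only [k3, k9]
    linear_combination (X ^ 11 + X ^ 10 + X ^ 9 + X ^ 8 + X ^ 7 + X ^ 6 + X ^ 5 + X ^ 3 + X ^ 2 + X : (ZMod 2)[X]) * poly_two_zero⟩

theorem mul_k12 : k3 * k9 = k12 := by
  simp only [k3, k9, k12]
  linear_combination (0 : (ZMod 2)[X]) * poly_two_zero

theorem coprime_k12t : IsCoprime k3 k9t :=
  ⟨X ^ 6 + X ^ 4 + X ^ 3 + X, 1, by
    simp only [k3, k9t]
    linear_combination (X ^ 9 + X ^ 7 + X ^ 6 + X ^ 5 + (2) * X ^ 4 + X ^ 3 + X ^ 2 + X : (ZMod 2)[X]) * poly_two_zero⟩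

theorem mul_k12t : k3 * k9t = k12t := by
  simp only [k3, k9t, k12t]
  linear_combination (X ^ 6 + X ^ 5 + X ^ 4 + X ^ 3 + X ^ 2 + X : (ZMod 2)[X]) * poly_two_zero

theorem col_k3 : colPoly ([1, 1, 0] : List (ZMod 2)) = k3 := by
  simp [colPoly, Fin.sum_univ_succ, k3]
  linear_combination (-(X + 1) : (ZMod 2)[X]) * poly_two_zero

theorem col_k4 : colPoly ([1, 1, 0, 0] : List (ZMod 2)) = k4 := by
  simp [colPoly, Fin.sum_univ_succ, k4]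
  linear_combination (-(X + 1) : (ZMod 2)[X]) * poly_two_zero

theorem col_k5 : colPoly ([1, 0, 1, 0, 0] : List (ZMod 2)) = k5 := by
  simp [colPoly, Fin.sum_univ_succ, k5]
  linear_combination (-(X ^ 2 + 1) : (ZMod 2)[X]) * poly_two_zero

theorem col_k6 : colPoly ([1, 1, 0, 0, 0, 0] : List (ZMod 2)) = k6 := by
  simp [colPoly, Fin.sum_univ_succ, k6]
  linear_combination (-(X + 1) : (ZMod 2)[X]) * poly_two_zero

theorem col_k6t : colPoly ([1, 0, 1, 0, 0, 0] : List (ZMod 2)) = k6t := by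
  simp [colPoly, Fin.sum_univ_succ, k6t]
  linear_combination (-(X ^ 2 + 1) : (ZMod 2)[X]) * poly_two_zero

theorem col_k7 : colPoly ([1, 1, 0, 0, 0, 0, 0] : List (ZMod 2)) = k7 := by
  simp [colPoly, Fin.sum_univ_succ, k7]
  linear_combination (-(X + 1) : (ZMod 2)[X]) * poly_two_zero

theorem col_k7t : colPoly ([1, 0, 1, 1, 0, 1, 0] : List (ZMod 2)) = k7t := by
  simp [colPoly, Fin.sum_univ_succ, k7t]
  linear_combination (-(X ^ 5 + X ^ 3 + X ^ 2 + 1) : (ZMod 2)[X]) * poly_two_zero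

theorem col_k8 : colPoly ([1, 0, 1, 1, 1, 0, 0, 0] : List (ZMod 2)) = k8 := by
  simp [colPoly, Fin.sum_univ_succ, k8]
  linear_combination (-(X ^ 4 + X ^ 3 + X ^ 2 + 1) : (ZMod 2)[X]) * poly_two_zero

theorem col_k8t : colPoly ([1, 0, 1, 0, 0, 0, 0, 0] : List (ZMod 2)) = k8t := by
  simp [colPoly, Fin.sum_univ_succ, k8t]
  linear_combination (-(X ^ 2 + 1) : (ZMod 2)[X]) * poly_two_zero

theorem col_k9 : colPoly ([1, 0, 0, 0, 1, 0, 0, 0, 0] : List (ZMod 2)) = k9 := by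
  simp [colPoly, Fin.sum_univ_succ, k9]
  linear_combination (-(X ^ 4 + 1) : (ZMod 2)[X]) * poly_two_zero

theorem col_k9t : colPoly ([1, 1, 1, 1, 1, 1, 0, 0, 0] : List (ZMod 2)) = k9t := by
  simp [colPoly, Fin.sum_univ_succ, k9t]
  linear_combination (-(X ^ 5 + X ^ 4 + X ^ 3 + X ^ 2 + X + 1) : (ZMod 2)[X]) * poly_two_zero

end CfsgLib.KnownB.OreOmegaPlus
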