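import Cfsg.Agent.Lib.KnownB.OreOmegaPlus.BinaryCheck
import Cfsg.Agent.Lib.KnownB.OreOmegaPlus.BinaryPolys
import Cfsg.Agent.Lib.KnownB.Sourour.Two

/-!
Dimensions three to nine over the field with two elements, read off from the tables.
-/

set_option autoImplicit false
set_option maxRecDepth 100000

namespace CfsgLib.KnownB.OreOmegaPlus

open Module Polynomial CfsgLib.KnownB.Sourour CfsgLib.KnownB.OreSp CfsgLib.KnownB.OreOmega

/-- A twist whose first factor is killed by `P`. -/
def Killed {V : Type*} [AddCommGroup V] [Module (ZMod 2) V] (P : (ZMod 2)[X])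
    (A : End (ZMod 2) V) : Prop :=
  ∃ T : Twist A, aeval T.L P = 0

theorem Killed.transport {V V' : Type*} [AddCommGroup V] [Module (ZMod 2) V] [AddCommGroup V']
    [Module (ZMod 2) V'] {P : (ZMod 2)[X]} {A : End (ZMod 2) V} (h : Killed P A)
    (φ : V ≃ₗ[ZMod 2] V') : Killed P (φ.conj A) :=
  let ⟨T, hT⟩ := h
  ⟨T.map φ, T.map_aeval φ P hT⟩

theorem aeval_comp_col {c : List (ZMod 2)} : aeval (OreOmega.comp c) (colPoly c) = 0 := by
  apply Matrix.toLin'.injective
  rw [map_zero, ← show aeval (Matrix.toLin' (OreOmega.comp c)) (colPoly c) =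
    Matrix.toLin' (aeval (OreOmega.comp c) (colPoly c)) from
    Polynomial.aeval_algHom_apply (Matrix.toLinAlgEquiv'.toAlgHom) (OreOmega.comp c) (colPoly c)]
  set L : End (ZMod 2) (Fin c.length → ZMod 2) := Matrix.toLin' (OreOmega.comp c) with hLdef
  rcases Nat.eq_zero_or_pos c.length with h0 | hpos
  · exact LinearMap.ext fun v => funext fun i => absurd i.2 (by omega)
  let e : Fin c.length → Fin c.length → ZMod 2 := fun i => Pi.single i 1
  have hcol : ∀ j i, L (e j) i = OreOmega.comp c i j := fun j i => by simp [hLdef, e]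
  have hpow : ∀ (j : ℕ) (hj : j < c.length), (L ^ j) (e ⟨0, hpos⟩) = e ⟨j, hj⟩ := by
    intro j
    induction j with
    | zero => intro hj; simp
    | succ j ih =>
      intro hj
      rw [pow_succ', Module.End.mul_apply, ih (by omega)]
      funext i
      rw [hcol]
      simp only [OreOmega.comp, Matrix.of_apply, e, Pi.single_apply, Fin.ext_iff]
      rw [if_neg (by omega)]
  have htop : (L ^ c.length) (e ⟨0, hpos⟩) =
      ∑ i : Fin c.length, c.get i • (L ^ (i : ℕ)) (e ⟨0, hpos⟩) := by
    obtain ⟨m, hm⟩ : ∃ m, c.length = m + 1 := ⟨c.length - 1, by omega⟩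
    have hl : (L ^ c.length) (e ⟨0, hpos⟩) = L (e ⟨m, by omega⟩) := by
      rw [← hpow m (by omega), ← Module.End.mul_apply, ← pow_succ']
      exact congrArg (fun k => (L ^ k) (e ⟨0, hpos⟩)) hm
    rw [hl]
    funext i
    rw [hcol, Finset.sum_apply, Finset.sum_congr rfl fun (k : Fin c.length) _ => by
      rw [hpow k k.2]]
    simp [OreOmega.comp, hm, e, Pi.single_apply]
  have h0 : aeval L (colPoly c) (e ⟨0, hpos⟩) = 0 := by
    rw [aeval_colPoly, LinearMap.sub_apply, htop, LinearMap.sum_apply]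
    simp
  refine (Pi.basisFun (ZMod 2) (Fin c.length)).ext fun j => ?_
  rw [show Pi.basisFun (ZMod 2) (Fin c.length) j = e j by simp [e], ← hpow j j.2,
    LinearMap.zero_apply, ← Module.End.mul_apply,
    show aeval L (colPoly c) * L ^ (j : ℕ) = L ^ (j : ℕ) * aeval L (colPoly c) by
      have := congrArg (aeval L) (mul_comm (colPoly c) ((Polynomial.X : (ZMod 2)[X]) ^ (j : ℕ)))
      simpa using this,
    Module.End.mul_apply, h0, map_zero]

/-- A certificate gives a twist. -/
theorem killed_of_cert {n : ℕ} {Ls : List ℕ} {cs : List (List (ZMod 2))}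
    {l M X S Si e ei : ℕ} (h : chkB n Ls cs (l, M, X, S, Si, e, ei) = true) {P : (ZMod 2)[X]}
    (hP : aeval (bitM n (Ls.getD l 0)) P = 0) (hd : (bitM n (Ls.getD l 0)).det ≠ 0) :
    Killed P (Matrix.toLin' (blkM n cs)) := by
  obtain ⟨-, h1, h2, h3, h4⟩ := chkB_spec h
  have hSu : IsUnit (bitM n S).det :=
    (Matrix.isUnit_iff_isUnit_det _).1 (IsUnit.of_mul_eq_one _ h3)
  have hXP : aeval (bitM n X) P = 0 := by
    have := (OreSp.aeval_semiconj h2.symm P).symm
    rw [hP, mul_zero] at this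
    exact ((Matrix.isUnit_iff_isUnit_det _).2 hSu).mul_left_eq_zero.1 this
  have hXu : IsUnit (bitM n X).det := by
    refine isUnit_iff_ne_zero.2 fun h0 => hd ?_
    have := congrArg Matrix.det h2
    rw [Matrix.det_mul, Matrix.det_mul, h0, zero_mul] at this
    exact (mul_eq_zero.1 this.symm).resolve_left hSu.ne_zero
  have hee : bitM n ei * bitM n e = 1 := mul_eq_one_comm.1 h4
  let E : (Fin n → ZMod 2) ≃ₗ[ZMod 2] (Fin n → ZMod 2) :=
    LinearEquiv.ofLinearMap (Matrix.toLin' (bitM n e)) (Matrix.toLin' (bitM n ei))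
      (by rw [← Matrix.toLin'_mul, h4, Matrix.toLin'_one])
      (by rw [← Matrix.toLin'_mul, hee, Matrix.toLin'_one])
  have hA : blkM n cs = bitM n X * (bitM n e * (bitM n X)⁻¹ * bitM n ei) := by
    have h5 : blkM n cs = bitM n X * bitM n e * ((bitM n X)⁻¹ * bitM n ei) := by
      rw [← h1]
      simp only [Matrix.mul_assoc]
      rw [Matrix.mul_nonsing_inv_cancel_left _ _ hXu, h4, Matrix.mul_one]
    rw [h5]
    simp only [Matrix.mul_assoc]
  refine ⟨⟨Matrix.toLin' (bitM n X), Matrix.toLin' (bitM n X)⁻¹, ?_, ?_, E, ?_, ?_⟩, ?_⟩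
  · rw [Module.End.mul_eq_comp, ← Matrix.toLin'_mul, Matrix.mul_nonsing_inv _ hXu,
      Matrix.toLin'_one]; rfl
  · rw [Module.End.mul_eq_comp, ← Matrix.toLin'_mul, Matrix.nonsing_inv_mul _ hXu,
      Matrix.toLin'_one]; rfl
  · refine LinearMap.ext fun v => ?_
    rw [Module.End.mul_apply, LinearEquiv.conj_apply_apply, hA]
    change _ = Matrix.toLin' (bitM n X) (Matrix.toLin' (bitM n e)
      (Matrix.toLin' (bitM n X)⁻¹ (Matrix.toLin' (bitM n ei) v)))
    simp only [Matrix.toLin'_apply, Matrix.mulVec_mulVec, Matrix.mul_assoc]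
  · intro d hd
    exact ⟨1, by rw [unit_two d hd, map_one], by rw [one_mul, mul_one]⟩
  · change aeval (Matrix.toLin' (bitM n X)) P = 0
    rw [show aeval (Matrix.toLin' (bitM n X)) P = Matrix.toLin' (aeval (bitM n X) P) from
      Polynomial.aeval_algHom_apply (Matrix.toLinAlgEquiv'.toAlgHom) (bitM n X) P, hXP, map_zero]

variable {V : Type} [AddCommGroup V] [Module (ZMod 2) V] [FiniteDimensional (ZMod 2) V]

/-- Using a table. -/
theorem killed_of_table {n : ℕ} (hV : finrank (ZMod 2) V = n) (A : End (ZMod 2) V)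
    (hdet : LinearMap.det A = 1) {Ls : List ℕ} {skip : List (List (List (ZMod 2)))}
    {ts : List (List (Option BCert))} (hchk : chkShapes n Ls skip (shapes n n n) ts = true) :
    (∃ l < Ls.length, ∀ P, aeval (bitM n (Ls.getD l 0)) P = 0 →
      (bitM n (Ls.getD l 0)).det ≠ 0 → Killed P A) ∨
      ∃ cs ∈ skip, ∃ B : Basis (Fin n) (ZMod 2) V,
        A = B.equivFun.symm.conj (Matrix.toLin' (blkM n cs)) := by
  obtain ⟨cs, B, hpos, hsum, hsort, -, hd, hB, -⟩ := exists_form n hV A
  have hA : A = B.equivFun.symm.conj (Matrix.toLin' (blkM n cs)) :=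
    conj_toMatrix B A _ fun j => hB j
  have hs : cs.map List.length ∈ shapes n n n := by
    refine mem_shapes _ n n n (fun x hx => ?_) hsort hsum le_rfl
    obtain ⟨c, hc, rfl⟩ := List.mem_map.1 hx
    exact ⟨hpos c hc, hsum ▸ List.single_le_sum (fun _ _ => Nat.zero_le _) _
      (List.mem_map_of_mem hc)⟩
  rcases chkShapes_spec n Ls skip _ ts hchk _ hs cs
    (mem_unitBlocks cs hpos (by rw [← hd, hdet]; exact one_ne_zero)) with ⟨⟨l, M, X, S, Si, e, ei⟩,
      hc⟩ | hk
  · exact Or.inl ⟨l, (chkB_spec hc).1, fun P hP hd =>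
      hA ▸ (killed_of_cert hc hP hd).transport _⟩
  · exact Or.inr ⟨cs, hk, B, hA⟩

/-- A class is killed by its polynomial and is invertible. -/
theorem class_comp (c : List (ZMod 2)) {L : ℕ} (hL : bitM c.length L = OreOmega.comp c)
    (hc : 0 < c.length) (h0 : c.getD 0 0 = 1) :
    aeval (bitM c.length L) (colPoly c) = 0 ∧ (bitM c.length L).det ≠ 0 := by
  rw [hL]
  exact ⟨aeval_comp_col, by rw [det_comp c hc, h0, mul_one]; exact pow_ne_zero _ (by decide)⟩

/-- Dimension three, apart from transvections. -/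
theorem base_bin_three (hV : finrank (ZMod 2) V = 3) (A : End (ZMod 2) V)
    (hdet : LinearMap.det A = 1)
    (hA : A = 1 ∨ 2 ≤ finrank (ZMod 2) (LinearMap.range (A - 1))) : Killed k3 A := by
  rcases killed_of_table hV A hdet bcheck_three with ⟨l, hl, h⟩ | ⟨cs, hcs, B, rfl⟩
  · obtain rfl : l = 0 := by simp [threeKinds] at hl; omega
    obtain ⟨h1, h2⟩ := class_comp [1, 1, 0] (L := threeKinds.getD 0 0) (by decide +kernel)
      (by simp) (by simp)
    exact col_k3 ▸ h _ h1 h2
  · exfalso
    exact not_tv B (by simpa [tvSkip] using hcs) (by decide +kernel) (by decide +kernel) hA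
where
  not_tv {n : ℕ} (B : Basis (Fin n) (ZMod 2) V) {cs cs' : List (List (ZMod 2))} (h : cs = cs')
      (h1 : blkM n cs' ≠ 1)
      (h2 : ∃ u w : Fin n → ZMod 2, blkM n cs' - 1 = Matrix.vecMulVec u w)
      (hA : B.equivFun.symm.conj (Matrix.toLin' (blkM n cs)) = 1 ∨
        2 ≤ finrank (ZMod 2) (LinearMap.range
          (B.equivFun.symm.conj (Matrix.toLin' (blkM n cs)) - 1))) : False := by
    subst h
    rcases hA with hA | hA
    · apply h1
      apply Matrix.toLin'.injective
      apply B.equivFun.symm.conj.injective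
      rw [hA, Matrix.toLin'_one]
      exact B.equivFun.symm.conj_id.symm
    · obtain ⟨u, w, h2⟩ := h2
      have e : B.equivFun.symm.conj (Matrix.toLin' (blkM n cs)) - 1 =
          B.equivFun.symm.conj (Matrix.toLin' (Matrix.vecMulVec u w)) := by
        rw [← h2, map_sub, map_sub, Matrix.toLin'_one]
        exact congrArg (_ - ·) B.equivFun.symm.conj_id.symm
      rw [e] at hA
      have hle : LinearMap.range (B.equivFun.symm.conj (Matrix.toLin' (Matrix.vecMulVec u w))) ≤
          ZMod 2 ∙ B.equivFun.symm u := by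
        rintro _ ⟨v, rfl⟩
        rw [LinearEquiv.conj_apply_apply, Matrix.toLin'_apply, Matrix.vecMulVec_mulVec]
        refine Submodule.mem_span_singleton.2 ⟨w ⬝ᵥ B.equivFun.symm.symm v, ?_⟩
        rw [← map_smul]
        congr 1
        funext i
        simp [mul_comm]
      have := (Submodule.finrank_mono hle).trans
        ((finrank_span_le_card ({B.equivFun.symm u} : Set V)).trans (by simp : _ ≤ 1))
      omega

end CfsgLib.KnownB.OreOmegaPlus
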