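import Cfsg.Agent.Lib.KnownB.OreOmegaPlus.BinaryEightData

/-!
The table of dimension 8 is checked in the kernel, one shape at a time.
-/

set_option autoImplicit false
set_option maxRecDepth 100000
set_option Elab.async false

namespace CfsgLib.KnownB.OreOmegaPlus

theorem bcheck_eight0 :
    chkShape 8 eightKinds [] (unitBlocks [8]) eightRows0 = true := by
  decide +kernel

theorem bcheck_eight1 :
    chkShape 8 eightKinds [] (unitBlocks [7, 1]) eightRows1 = true := by
  decide +kernel

theorem bcheck_eight2 :
    chkShape 8 eightKinds [] (unitBlocks [6, 2]) eightRows2 = true := by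
  decide +kernel

theorem bcheck_eight3 :
    chkShape 8 eightKinds [] (unitBlocks [6, 1, 1]) eightRows3 = true := by
  decide +kernel

theorem bcheck_eight4 :
    chkShape 8 eightKinds [] (unitBlocks [5, 3]) eightRows4 = true := by
  decide +kernel

theorem bcheck_eight5 :
    chkShape 8 eightKinds [] (unitBlocks [5, 2, 1]) eightRows5 = true := by
  decide +kernel

theorem bcheck_eight6 :
    chkShape 8 eightKinds [] (unitBlocks [5, 1, 1, 1]) eightRows6 = true := by
  decide +kernel

theorem bcheck_eight7 :
    chkShape 8 eightKinds [] (unitBlocks [4, 4]) eightRows7 = true := by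
  decide +kernel

theorem bcheck_eight8 :
    chkShape 8 eightKinds [] (unitBlocks [4, 3, 1]) eightRows8 = true := by
  decide +kernel

theorem bcheck_eight9 :
    chkShape 8 eightKinds [] (unitBlocks [4, 2, 2]) eightRows9 = true := by
  decide +kernel

theorem bcheck_eight10 :
    chkShape 8 eightKinds [] (unitBlocks [4, 2, 1, 1]) eightRows10 = true := by
  decide +kernel

theorem bcheck_eight11 :
    chkShape 8 eightKinds [] (unitBlocks [4, 1, 1, 1, 1]) eightRows11 = true := by
  decide +kernel

theorem bcheck_eight12 :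
    chkShape 8 eightKinds [] (unitBlocks [3, 3, 2]) eightRows12 = true := by
  decide +kernel

theorem bcheck_eight13 :
    chkShape 8 eightKinds [] (unitBlocks [3, 3, 1, 1]) eightRows13 = true := by
  decide +kernel

theorem bcheck_eight14 :
    chkShape 8 eightKinds [] (unitBlocks [3, 2, 2, 1]) eightRows14 = true := by
  decide +kernel

theorem bcheck_eight15 :
    chkShape 8 eightKinds [] (unitBlocks [3, 2, 1, 1, 1]) eightRows15 = true := by
  decide +kernel

theorem bcheck_eight16 :
    chkShape 8 eightKinds [] (unitBlocks [3, 1, 1, 1, 1, 1]) eightRows16 = true := by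
  decide +kernel

theorem bcheck_eight17 :
    chkShape 8 eightKinds [] (unitBlocks [2, 2, 2, 2]) eightRows17 = true := by
  decide +kernel

theorem bcheck_eight18 :
    chkShape 8 eightKinds [] (unitBlocks [2, 2, 2, 1, 1]) eightRows18 = true := by
  decide +kernel

theorem bcheck_eight19 :
    chkShape 8 eightKinds [] (unitBlocks [2, 2, 1, 1, 1, 1]) eightRows19 = true := by
  decide +kernel

theorem bcheck_eight20 :
    chkShape 8 eightKinds [] (unitBlocks [2, 1, 1, 1, 1, 1, 1]) eightRows20 = true := by
  decide +kernel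

theorem bcheck_eight21 :
    chkShape 8 eightKinds [] (unitBlocks [1, 1, 1, 1, 1, 1, 1, 1]) eightRows21 = true := by
  decide +kernel

theorem bcheck_eight :
    chkShapes 8 eightKinds [] (shapes 8 8 8) eightRows = true := by
  have h : shapes 8 8 8 = [
      [8], [7, 1], [6, 2], [6, 1, 1], [5, 3], [5, 2, 1], [5, 1, 1, 1], [4, 4],
      [4, 3, 1], [4, 2, 2], [4, 2, 1, 1], [4, 1, 1, 1, 1], [3, 3, 2], [3, 3, 1, 1],
      [3, 2, 2, 1], [3, 2, 1, 1, 1], [3, 1, 1, 1, 1, 1], [2, 2, 2, 2], [2, 2, 2, 1, 1],
      [2, 2, 1, 1, 1, 1], [2, 1, 1, 1, 1, 1, 1], [1, 1, 1, 1, 1, 1, 1, 1]] := by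
    decide +kernel
  simp only [h, eightRows, chkShapes, Bool.and_self, Bool.and_true,
    bcheck_eight0, bcheck_eight1, bcheck_eight2, bcheck_eight3, bcheck_eight4, bcheck_eight5,
    bcheck_eight6, bcheck_eight7, bcheck_eight8, bcheck_eight9, bcheck_eight10, bcheck_eight11,
    bcheck_eight12, bcheck_eight13, bcheck_eight14, bcheck_eight15, bcheck_eight16, bcheck_eight17,
    bcheck_eight18, bcheck_eight19, bcheck_eight20, bcheck_eight21]

end CfsgLib.KnownB.OreOmegaPlus
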