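import Cfsg.Agent.Lib.KnownB.OreOmegaPlus.BinaryNineData

/-!
The table of dimension 9 is checked in the kernel, one shape at a time.
-/

set_option autoImplicit false
set_option maxRecDepth 100000
set_option Elab.async false

namespace CfsgLib.KnownB.OreOmegaPlus

theorem bcheck_nine0 :
    chkShape 9 nineKinds [] (unitBlocks [9]) nineRows0 = true := by
  decide +kernel

theorem bcheck_nine1 :
    chkShape 9 nineKinds [] (unitBlocks [8, 1]) nineRows1 = true := by
  decide +kernel

theorem bcheck_nine2 :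
    chkShape 9 nineKinds [] (unitBlocks [7, 2]) nineRows2 = true := by
  decide +kernel

theorem bcheck_nine3 :
    chkShape 9 nineKinds [] (unitBlocks [7, 1, 1]) nineRows3 = true := by
  decide +kernel

theorem bcheck_nine4 :
    chkShape 9 nineKinds [] (unitBlocks [6, 3]) nineRows4 = true := by
  decide +kernel

theorem bcheck_nine5 :
    chkShape 9 nineKinds [] (unitBlocks [6, 2, 1]) nineRows5 = true := by
  decide +kernel

theorem bcheck_nine6 :
    chkShape 9 nineKinds [] (unitBlocks [6, 1, 1, 1]) nineRows6 = true := by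
  decide +kernel

theorem bcheck_nine7 :
    chkShape 9 nineKinds [] (unitBlocks [5, 4]) nineRows7 = true := by
  decide +kernel

theorem bcheck_nine8 :
    chkShape 9 nineKinds [] (unitBlocks [5, 3, 1]) nineRows8 = true := by
  decide +kernel

theorem bcheck_nine9 :
    chkShape 9 nineKinds [] (unitBlocks [5, 2, 2]) nineRows9 = true := by
  decide +kernel

theorem bcheck_nine10 :
    chkShape 9 nineKinds [] (unitBlocks [5, 2, 1, 1]) nineRows10 = true := by
  decide +kernel

theorem bcheck_nine11 :
    chkShape 9 nineKinds [] (unitBlocks [5, 1, 1, 1, 1]) nineRows11 = true := by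
  decide +kernel

theorem bcheck_nine12 :
    chkShape 9 nineKinds [] (unitBlocks [4, 4, 1]) nineRows12 = true := by
  decide +kernel

theorem bcheck_nine13 :
    chkShape 9 nineKinds [] (unitBlocks [4, 3, 2]) nineRows13 = true := by
  decide +kernel

theorem bcheck_nine14 :
    chkShape 9 nineKinds [] (unitBlocks [4, 3, 1, 1]) nineRows14 = true := by
  decide +kernel

theorem bcheck_nine15 :
    chkShape 9 nineKinds [] (unitBlocks [4, 2, 2, 1]) nineRows15 = true := by
  decide +kernel

theorem bcheck_nine16 :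
    chkShape 9 nineKinds [] (unitBlocks [4, 2, 1, 1, 1]) nineRows16 = true := by
  decide +kernel

theorem bcheck_nine17 :
    chkShape 9 nineKinds [] (unitBlocks [4, 1, 1, 1, 1, 1]) nineRows17 = true := by
  decide +kernel

theorem bcheck_nine18 :
    chkShape 9 nineKinds [] (unitBlocks [3, 3, 3]) nineRows18 = true := by
  decide +kernel

theorem bcheck_nine19 :
    chkShape 9 nineKinds [] (unitBlocks [3, 3, 2, 1]) nineRows19 = true := by
  decide +kernel

theorem bcheck_nine20 :
    chkShape 9 nineKinds [] (unitBlocks [3, 3, 1, 1, 1]) nineRows20 = true := by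
  decide +kernel

theorem bcheck_nine21 :
    chkShape 9 nineKinds [] (unitBlocks [3, 2, 2, 2]) nineRows21 = true := by
  decide +kernel

theorem bcheck_nine22 :
    chkShape 9 nineKinds [] (unitBlocks [3, 2, 2, 1, 1]) nineRows22 = true := by
  decide +kernel

theorem bcheck_nine23 :
    chkShape 9 nineKinds [] (unitBlocks [3, 2, 1, 1, 1, 1]) nineRows23 = true := by
  decide +kernel

theorem bcheck_nine24 :
    chkShape 9 nineKinds [] (unitBlocks [3, 1, 1, 1, 1, 1, 1]) nineRows24 = true := by
  decide +kernel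

theorem bcheck_nine25 :
    chkShape 9 nineKinds [] (unitBlocks [2, 2, 2, 2, 1]) nineRows25 = true := by
  decide +kernel

theorem bcheck_nine26 :
    chkShape 9 nineKinds [] (unitBlocks [2, 2, 2, 1, 1, 1]) nineRows26 = true := by
  decide +kernel

theorem bcheck_nine27 :
    chkShape 9 nineKinds [] (unitBlocks [2, 2, 1, 1, 1, 1, 1]) nineRows27 = true := by
  decide +kernel

theorem bcheck_nine28 :
    chkShape 9 nineKinds [] (unitBlocks [2, 1, 1, 1, 1, 1, 1, 1]) nineRows28 = true := by
  decide +kernel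

theorem bcheck_nine29 :
    chkShape 9 nineKinds [] (unitBlocks [1, 1, 1, 1, 1, 1, 1, 1, 1]) nineRows29 = true := by
  decide +kernel

theorem bcheck_nine :
    chkShapes 9 nineKinds [] (shapes 9 9 9) nineRows = true := by
  have h : shapes 9 9 9 = [
      [9], [8, 1], [7, 2], [7, 1, 1], [6, 3], [6, 2, 1], [6, 1, 1, 1], [5, 4],
      [5, 3, 1], [5, 2, 2], [5, 2, 1, 1], [5, 1, 1, 1, 1], [4, 4, 1], [4, 3, 2],
      [4, 3, 1, 1], [4, 2, 2, 1], [4, 2, 1, 1, 1], [4, 1, 1, 1, 1, 1], [3, 3, 3],
      [3, 3, 2, 1], [3, 3, 1, 1, 1], [3, 2, 2, 2], [3, 2, 2, 1, 1], [3, 2, 1, 1, 1, 1],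
      [3, 1, 1, 1, 1, 1, 1], [2, 2, 2, 2, 1], [2, 2, 2, 1, 1, 1],
      [2, 2, 1, 1, 1, 1, 1], [2, 1, 1, 1, 1, 1, 1, 1], [1, 1, 1, 1, 1, 1, 1, 1, 1]] := by
    decide +kernel
  simp only [h, nineRows, chkShapes, Bool.and_self, Bool.and_true,
    bcheck_nine0, bcheck_nine1, bcheck_nine2, bcheck_nine3, bcheck_nine4, bcheck_nine5,
    bcheck_nine6, bcheck_nine7, bcheck_nine8, bcheck_nine9, bcheck_nine10, bcheck_nine11,
    bcheck_nine12, bcheck_nine13, bcheck_nine14, bcheck_nine15, bcheck_nine16, bcheck_nine17,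
    bcheck_nine18, bcheck_nine19, bcheck_nine20, bcheck_nine21, bcheck_nine22, bcheck_nine23,
    bcheck_nine24, bcheck_nine25, bcheck_nine26, bcheck_nine27, bcheck_nine28, bcheck_nine29]

end CfsgLib.KnownB.OreOmegaPlus
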