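import Cfsg.Agent.Lib.KnownB.OreOmegaPlus.BinarySevenData

/-!
The table of dimension 7 is checked in the kernel, one shape at a time.
-/

set_option autoImplicit false
set_option maxRecDepth 100000
set_option Elab.async false

namespace CfsgLib.KnownB.OreOmegaPlus

theorem bcheck_seven0 :
    chkShape 7 sevenKinds [] (unitBlocks [7]) sevenRows0 = true := by
  decide +kernel

theorem bcheck_seven1 :
    chkShape 7 sevenKinds [] (unitBlocks [6, 1]) sevenRows1 = true := by
  decide +kernel

theorem bcheck_seven2 :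
    chkShape 7 sevenKinds [] (unitBlocks [5, 2]) sevenRows2 = true := by
  decide +kernel

theorem bcheck_seven3 :
    chkShape 7 sevenKinds [] (unitBlocks [5, 1, 1]) sevenRows3 = true := by
  decide +kernel

theorem bcheck_seven4 :
    chkShape 7 sevenKinds [] (unitBlocks [4, 3]) sevenRows4 = true := by
  decide +kernel

theorem bcheck_seven5 :
    chkShape 7 sevenKinds [] (unitBlocks [4, 2, 1]) sevenRows5 = true := by
  decide +kernel

theorem bcheck_seven6 :
    chkShape 7 sevenKinds [] (unitBlocks [4, 1, 1, 1]) sevenRows6 = true := by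
  decide +kernel

theorem bcheck_seven7 :
    chkShape 7 sevenKinds [] (unitBlocks [3, 3, 1]) sevenRows7 = true := by
  decide +kernel

theorem bcheck_seven8 :
    chkShape 7 sevenKinds [] (unitBlocks [3, 2, 2]) sevenRows8 = true := by
  decide +kernel

theorem bcheck_seven9 :
    chkShape 7 sevenKinds [] (unitBlocks [3, 2, 1, 1]) sevenRows9 = true := by
  decide +kernel

theorem bcheck_seven10 :
    chkShape 7 sevenKinds [] (unitBlocks [3, 1, 1, 1, 1]) sevenRows10 = true := by
  decide +kernel

theorem bcheck_seven11 :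
    chkShape 7 sevenKinds [] (unitBlocks [2, 2, 2, 1]) sevenRows11 = true := by
  decide +kernel

theorem bcheck_seven12 :
    chkShape 7 sevenKinds [] (unitBlocks [2, 2, 1, 1, 1]) sevenRows12 = true := by
  decide +kernel

theorem bcheck_seven13 :
    chkShape 7 sevenKinds [] (unitBlocks [2, 1, 1, 1, 1, 1]) sevenRows13 = true := by
  decide +kernel

theorem bcheck_seven14 :
    chkShape 7 sevenKinds [] (unitBlocks [1, 1, 1, 1, 1, 1, 1]) sevenRows14 = true := by
  decide +kernel

theorem bcheck_seven :
    chkShapes 7 sevenKinds [] (shapes 7 7 7) sevenRows = true := by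
  have h : shapes 7 7 7 = [
      [7], [6, 1], [5, 2], [5, 1, 1], [4, 3], [4, 2, 1], [4, 1, 1, 1], [3, 3, 1],
      [3, 2, 2], [3, 2, 1, 1], [3, 1, 1, 1, 1], [2, 2, 2, 1], [2, 2, 1, 1, 1],
      [2, 1, 1, 1, 1, 1], [1, 1, 1, 1, 1, 1, 1]] := by
    decide +kernel
  simp only [h, sevenRows, chkShapes, Bool.and_self, Bool.and_true,
    bcheck_seven0, bcheck_seven1, bcheck_seven2, bcheck_seven3, bcheck_seven4, bcheck_seven5,
    bcheck_seven6, bcheck_seven7, bcheck_seven8, bcheck_seven9, bcheck_seven10, bcheck_seven11,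
    bcheck_seven12, bcheck_seven13, bcheck_seven14]

end CfsgLib.KnownB.OreOmegaPlus
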