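import Cfsg.Agent.Lib.KnownB.OreOmegaPlus.BinaryKeys

/-!
Certificates in dimension 5 over the field with two elements.
-/

set_option autoImplicit false

namespace CfsgLib.KnownB.OreOmegaPlus

/-- Companion matrices of the classes used. -/
def fiveKinds : List ℕ := [8538160]

/-- Certificates of the shape 5. -/
def fiveRows0 : List (Option BCert) := [
  some (0, 8521776, 22373193, 33430615, 5828698, 7792902, 29454161),
  some (0, 25298992, 11748010, 4662243, 24265629, 28512901, 7311749),
  some (0, 9046064, 18652532, 15550553, 6715467, 8505271, 33053307),
  some (0, 25823280, 28681402, 6664317, 26557404, 18962885, 26169621),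
  some (0, 8538160, 33517739, 2857738, 20501023, 14131858, 26373903),
  some (0, 25315376, 18915256, 9493424, 1855176, 9964613, 9116742),
  some (0, 9062448, 5762879, 17207404, 16945513, 30514881, 8204577),
  some (0, 25839664, 21720753, 22183686, 33464615, 10883785, 27661197),
  some (0, 8522288, 31508804, 6572516, 22283834, 4901236, 18825897),
  some (0, 25299504, 11719538, 31401174, 3464877, 15853285, 30924758),
  some (0, 9046576, 2679852, 13061851, 15914771, 27925360, 1975730),
  some (0, 25823792, 28296322, 12421290, 25349265, 15666517, 25610731),
  some (0, 8538672, 10062510, 13207045, 2790852, 22960612, 32212847),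
  some (0, 25315888, 10210525, 14238772, 6987202, 13477562, 23525193),
  some (0, 9062960, 24849193, 7810932, 6922123, 18000987, 5895253),
  some (0, 25840176, 12764879, 3501598, 2830286, 4596946, 20726364)]

/-- Certificates of the shape 4, 1. -/
def fiveRows1 : List (Option BCert) := [
  some (0, 16910376, 9391354, 3709340, 4128619, 4111416, 32484930),
  some (0, 17172520, 27179864, 14170427, 9357695, 32922299, 32294253),
  some (0, 16918568, 5365092, 29611275, 26291894, 17980790, 22913925),
  some (0, 17180712, 16095847, 12363704, 13019785, 28789466, 15898993),
  some (0, 16910632, 12105154, 21351937, 2574561, 26284500, 5706011),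
  some (0, 17172776, 28194764, 29004387, 3740111, 32311854, 18800787),
  some (0, 16918824, 10585528, 27799477, 8509308, 3142234, 18994716),
  some (0, 17180968, 19259564, 30836344, 26007492, 2804975, 27390478)]

/-- Certificates of the shape 3, 2. -/
def fiveRows2 : List (Option BCert) := [
  some (0, 8914980, 32698039, 21475531, 26649959, 2544225, 20930049),
  some (0, 25692196, 8238077, 18551746, 13963325, 9726968, 9730232),
  some (0, 8919076, 33155853, 17094263, 17796279, 10350801, 16733934),
  some (0, 25696292, 15277597, 3438822, 13912675, 13256506, 31677242),
  some (0, 8915108, 30459762, 21469927, 3460837, 25750524, 33015447),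
  some (0, 25692324, 28988674, 6879335, 26644081, 24432189, 31183071),
  some (0, 8919204, 26711725, 23144655, 19278095, 5054813, 10633439),
  some (0, 25696420, 28000251, 7892610, 9119803, 6104842, 9829711)]

/-- Certificates of the shape 3, 1, 1. -/
def fiveRows3 : List (Option BCert) := [
  some (0, 17041444, 31900552, 29153587, 11066131, 30888347, 33353037),
  some (0, 17045540, 26301937, 18119809, 18090945, 22555448, 8711587),
  some (0, 17041572, 23041339, 23193911, 15310641, 29342541, 31843058),
  some (0, 17045668, 19388703, 2685044, 27979282, 17815639, 17094725)]

/-- Certificates of the shape 2, 2, 1. -/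
def fiveRows4 : List (Option BCert) := [
  some (0, 16916514, 18240870, 6026215, 9772599, 5804310, 29430580),
  some (0, 17178658, 16175282, 11646111, 20712158, 12561020, 12373940),
  some (0, 16916578, 18509966, 29234502, 12547993, 30253349, 20061990),
  some (0, 17178722, 12283272, 6208667, 8358258, 8044339, 16415481)]

/-- Certificates of the shape 2, 1, 1, 1. -/
def fiveRows5 : List (Option BCert) := [
  none,
  some (0, 17043554, 13735847, 21027757, 4017800, 10058504, 3192177)]

/-- Certificates of the shape 1, 1, 1, 1, 1. -/
def fiveRows6 : List (Option BCert) := [
  some (0, 17043521, 18995821, 25338518, 21125246, 8788350, 22569870)]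

/-- All certificates in dimension 5. -/
def fiveRows : List (List (Option BCert)) :=
  [fiveRows0, fiveRows1, fiveRows2, fiveRows3, fiveRows4, fiveRows5, fiveRows6]

end CfsgLib.KnownB.OreOmegaPlus
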