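import Cfsg.Agent.Lib.KnownB.OreOmegaPlus.BinaryKeys

/-!
Certificates in dimension 4 over the field with two elements.
-/

set_option autoImplicit false

namespace CfsgLib.KnownB.OreOmegaPlus

/-- Companion matrices of the classes used. -/
def fourKinds : List ℕ := [17048]

/-- Certificates of the shape 4. -/
def fourRows0 : List (Option BCert) := [
  some (0, 16920, 14556, 5060, 12744, 42231, 13502),
  some (0, 49688, 54674, 55076, 57639, 48738, 25375),
  some (0, 18968, 21181, 13732, 61909, 33084, 35172),
  some (0, 51736, 55639, 8554, 39556, 33267, 35668),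
  some (0, 17048, 47833, 28308, 49566, 16007, 10743),
  some (0, 49816, 27971, 54706, 51999, 59181, 32043),
  some (0, 19096, 6124, 50982, 45861, 17378, 47125),
  some (0, 51864, 12795, 47757, 12140, 14569, 19413)]

/-- Certificates of the shape 3, 1. -/
def fourRows1 : List (Option BCert) := [
  some (0, 33300, 47212, 5076, 45512, 34375, 33381),
  some (0, 34324, 49013, 32038, 58153, 34255, 35550),
  some (0, 33364, 27929, 59755, 42846, 8034, 58136),
  some (0, 34388, 16073, 50152, 6574, 10449, 18305)]

/-- Certificates of the shape 2, 2. -/
def fourRows2 : List (Option BCert) := [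
  some (0, 18450, 43828, 63116, 9086, 27769, 49018),
  some (0, 51218, 64743, 31336, 5978, 29258, 21070),
  some (0, 18482, 53159, 18046, 22726, 64694, 60087),
  some (0, 51250, 28557, 34070, 34418, 4729, 40520)]

/-- Certificates of the shape 2, 1, 1. -/
def fourRows3 : List (Option BCert) := [
  none,
  some (0, 33842, 46408, 20456, 6326, 4975, 48840)]

/-- Certificates of the shape 1, 1, 1, 1. -/
def fourRows4 : List (Option BCert) := [
  some (0, 33825, 59578, 65122, 25372, 27803, 64317)]

/-- All certificates in dimension 4. -/
def fourRows : List (List (Option BCert)) :=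
  [fourRows0, fourRows1, fourRows2, fourRows3, fourRows4]

end CfsgLib.KnownB.OreOmegaPlus
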