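import Cfsg.Agent.Lib.KnownB.OreOmegaPlus.BinaryThreeData
import Cfsg.Agent.Lib.KnownB.OreOmegaPlus.BinaryFourData
import Cfsg.Agent.Lib.KnownB.OreOmegaPlus.BinaryFiveData
import Cfsg.Agent.Lib.KnownB.OreOmegaPlus.BinarySixData
import Cfsg.Agent.Lib.KnownB.OreOmegaPlus.BinaryCheckSeven
import Cfsg.Agent.Lib.KnownB.OreOmegaPlus.BinaryCheckEight
import Cfsg.Agent.Lib.KnownB.OreOmegaPlus.BinaryCheckNine

/-!
The tables are checked in the kernel.
-/

set_option autoImplicit false
set_option maxRecDepth 100000
set_option Elab.async false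

namespace CfsgLib.KnownB.OreOmegaPlus

/-- The transvection forms in dimensions below six. -/
def tvSkip : ℕ → List (List (List (ZMod 2)))
  | 3 => [[[1, 0], [1]]]
  | 4 => [[[1, 0], [1], [1]]]
  | 5 => [[[1, 0], [1], [1], [1]]]
  | _ => []

theorem bcheck_three :
    chkShapes 3 threeKinds (tvSkip 3) (shapes 3 3 3) threeRows = true := by decide +kernel

theorem bcheck_four :
    chkShapes 4 fourKinds (tvSkip 4) (shapes 4 4 4) fourRows = true := by decide +kernel

theorem bcheck_five :
    chkShapes 5 fiveKinds (tvSkip 5) (shapes 5 5 5) fiveRows = true := by decide +kernel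

theorem bcheck_six : chkShapes 6 sixKinds [] (shapes 6 6 6) sixRows = true := by decide +kernel

end CfsgLib.KnownB.OreOmegaPlus
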