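import Cfsg.Agent.Lib.KnownB.OreOmega.ThreeKeys

/-!
Certificates over the field with two elements, matrices stored as bit strings.
-/

set_option autoImplicit false

namespace CfsgLib.KnownB.OreOmegaPlus

open Matrix CfsgLib.KnownB.OreOmega

/-- A bit as a scalar. -/
def bitZ (b : Bool) : ZMod 2 := if b then 1 else 0

/-- The matrix of a bit string. -/
def bitM (n N : ℕ) : Matrix (Fin n) (Fin n) (ZMod 2) :=
  Matrix.of fun i j => bitZ (N.testBit (n * i + j))

/-- The vector of a bit string. -/
def bitV (n r : ℕ) : Fin n → ZMod 2 := fun j => bitZ (r.testBit j)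

/-- A row. -/
def bitRow (n N i : ℕ) : ℕ := (N >>> (n * i)) &&& (2 ^ n - 1)

/-- A combination of the first `k` rows. -/
def bitComb (n B r : ℕ) : ℕ → ℕ
  | 0 => 0
  | k + 1 => Nat.xor (bitComb n B r k) (if r.testBit k then bitRow n B k else 0)

/-- A vector times a matrix. -/
def bitMul (n B r : ℕ) : ℕ := bitComb n B r n

theorem bitZ_xor (a b : Bool) : bitZ (Bool.xor a b) = bitZ a + bitZ b := by
  revert a b; decide

theorem testBit_bitRow (n N i : ℕ) (j : Fin n) :
    (bitRow n N i).testBit j = N.testBit (n * i + j) := by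
  simp [bitRow, Nat.testBit_shiftRight]

theorem bitV_row (n N : ℕ) (i : Fin n) : bitV n (bitRow n N i) = (bitM n N).row i := by
  funext j
  simp [bitV, bitM, testBit_bitRow]

theorem bitV_comb (n B r : ℕ) (j : Fin n) : ∀ k ≤ n, bitV n (bitComb n B r k) j =
    ∑ t ∈ Finset.range k, bitZ (r.testBit t) * bitZ (B.testBit (n * t + j))
  | 0, _ => by simp [bitComb, bitV, bitZ]
  | k + 1, hk => by
    rw [Finset.sum_range_succ, ← bitV_comb n B r j k (by omega), bitV, bitComb]
    change bitZ ((bitComb n B r k ^^^ if r.testBit k then bitRow n B k else 0).testBit j) = _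
    rw [Nat.testBit_xor, bitZ_xor]
    congr 1
    cases r.testBit k <;> simp [bitZ, testBit_bitRow n B k j]

theorem bitV_mul (n B r : ℕ) : bitV n (bitMul n B r) = bitV n r ᵥ* bitM n B := by
  funext j
  rw [bitMul, bitV_comb n B r j n le_rfl, Finset.sum_range]
  rfl

theorem bitM_mul_row (n A B : ℕ) (i : Fin n) :
    (bitM n A * bitM n B).row i = bitV n (bitMul n B (bitRow n A i)) := by
  rw [bitV_mul, bitV_row]
  rfl

theorem bitM_mul_mul_row (n A B C : ℕ) (i : Fin n) :
    (bitM n A * bitM n B * bitM n C).row i = bitV n (bitMul n C (bitMul n B (bitRow n A i))) := by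
  rw [bitV_mul, ← bitM_mul_row]
  rfl

theorem bitV_single (n : ℕ) (i : Fin n) :
    bitV n (2 ^ (i : ℕ)) = (1 : Matrix (Fin n) (Fin n) (ZMod 2)).row i := by
  funext j
  simp [bitV, bitZ, Nat.testBit_two_pow, Matrix.one_apply, Fin.ext_iff]

/-- Finite conjunction. -/
def allBelow (f : ℕ → Bool) : ℕ → Bool
  | 0 => true
  | k + 1 => f k && allBelow f k

theorem allBelow_spec {f : ℕ → Bool} : ∀ {n}, allBelow f n = true → ∀ k < n, f k = true
  | 0, _, k, hk => absurd hk (Nat.not_lt_zero k)
  | n + 1, h, k, hk => by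
    rw [allBelow, Bool.and_eq_true] at h
    rcases Nat.lt_succ_iff_lt_or_eq.1 hk with hk | rfl
    · exact allBelow_spec h.2 k hk
    · exact h.1

/-- A certificate: class, the form, `X`, `S`, `S⁻¹`, `e`, `e⁻¹`. -/
abbrev BCert := ℕ × ℕ × ℕ × ℕ × ℕ × ℕ × ℕ

/-- Checking a certificate. -/
def chkB (n : ℕ) (Ls : List ℕ) (cs : List (List (ZMod 2))) : BCert → Bool
  | (l, M, X, S, Si, e, ei) => decide (l < Ls.length) &&
    allBelow (fun i => allBelow (fun j =>
      M.testBit (n * i + j) == decide (blk cs i j = 1)) n) n &&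
    allBelow (fun i => Nat.beq (bitMul n X (bitMul n e (bitRow n M i))) (bitMul n e (bitRow n X i))
      && Nat.beq (bitMul n S (bitRow n X i)) (bitMul n (Ls.getD l 0) (bitRow n S i))
      && Nat.beq (bitMul n Si (bitRow n S i)) (2 ^ i)
      && Nat.beq (bitMul n ei (bitRow n e i)) (2 ^ i)) n

theorem chkB_spec {n : ℕ} {Ls : List ℕ} {cs : List (List (ZMod 2))} {l M X S Si e ei : ℕ}
    (h : chkB n Ls cs (l, M, X, S, Si, e, ei) = true) :
    l < Ls.length ∧ blkM n cs * (bitM n e * bitM n X) = bitM n X * bitM n e ∧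
      bitM n X * bitM n S = bitM n S * bitM n (Ls.getD l 0) ∧ bitM n S * bitM n Si = 1 ∧
      bitM n e * bitM n ei = 1 := by
  simp only [chkB, Bool.and_eq_true, decide_eq_true_eq] at h
  obtain ⟨⟨h1, hM⟩, h2⟩ := h
  have hblk : blkM n cs = bitM n M := by
    ext i j
    have := allBelow_spec (allBelow_spec hM i i.2) j j.2
    rw [beq_iff_eq] at this
    simp only [blkM, bitM, Matrix.of_apply, this]
    exact (show ∀ x : ZMod 2, x = bitZ (decide (x = 1)) by decide) _
  have hr : ∀ i : Fin n, _ := fun i => allBelow_spec h2 i i.2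
  simp only [Bool.and_eq_true] at hr
  refine ⟨h1, ?_, ?_, ?_, ?_⟩
  · rw [hblk, ← Matrix.mul_assoc]
    exact Matrix.ext_row fun i => by
      rw [bitM_mul_mul_row, bitM_mul_row, Nat.eq_of_beq_eq_true (hr i).1.1.1]
  · exact Matrix.ext_row fun i => by
      rw [bitM_mul_row, bitM_mul_row, Nat.eq_of_beq_eq_true (hr i).1.1.2]
  · exact Matrix.ext_row fun i => by
      rw [bitM_mul_row, Nat.eq_of_beq_eq_true (hr i).1.2, bitV_single]
  · exact Matrix.ext_row fun i => by
      rw [bitM_mul_row, Nat.eq_of_beq_eq_true (hr i).2, bitV_single]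

/-- All coefficient lists. -/
def coeffs : ℕ → List (List (ZMod 2))
  | 0 => [[]]
  | d + 1 => [(0 : ZMod 2), 1].flatMap fun a => (coeffs d).map (a :: ·)

/-- Coefficient lists of invertible companion matrices. -/
def unitCoeffs (d : ℕ) : List (List (ZMod 2)) := (coeffs (d - 1)).map ((1 : ZMod 2) :: ·)

/-- All block lists of a shape. -/
def unitBlocks : List ℕ → List (List (List (ZMod 2)))
  | [] => [[]]
  | d :: ds => (unitCoeffs d).flatMap fun c => (unitBlocks ds).map (c :: ·)

/-- Non-increasing shapes. -/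
def shapes : ℕ → ℕ → ℕ → List (List ℕ)
  | 0, _, _ => [[]]
  | fuel + 1, n, m =>
    if n = 0 then [[]]
    else ((List.range (min n m)).reverse).flatMap fun a =>
      (shapes fuel (n - (a + 1)) (a + 1)).map ((a + 1) :: ·)

theorem mem_shapes : ∀ (l : List ℕ) (fuel n m : ℕ), (∀ x ∈ l, 0 < x ∧ x ≤ m) →
    l.Pairwise (· ≥ ·) → l.sum = n → n ≤ fuel → l ∈ shapes fuel n m
  | [], fuel, n, m, _, _, hs, _ => by
    subst hs
    cases fuel <;> simp [shapes]
  | a :: l, fuel, n, m, hm, hp, hs, hf => by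
    obtain ⟨ha, ham⟩ := hm a List.mem_cons_self
    rw [List.sum_cons] at hs
    obtain ⟨fuel, rfl⟩ : ∃ k, fuel = k + 1 := ⟨fuel - 1, by omega⟩
    rw [shapes, if_neg (by omega), List.mem_flatMap]
    obtain ⟨a, rfl⟩ : ∃ k, a = k + 1 := ⟨a - 1, by omega⟩
    refine ⟨a, by simp only [List.mem_reverse, List.mem_range]; omega, List.mem_map.2 ⟨l, ?_, rfl⟩⟩
    rw [List.pairwise_cons] at hp
    exact mem_shapes l fuel _ (a + 1)
      (fun x hx => ⟨(hm x (List.mem_cons_of_mem _ hx)).1, hp.1 x hx⟩) hp.2 (by omega) (by omega)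

theorem mem_coeffs : ∀ c : List (ZMod 2), c ∈ coeffs c.length
  | [] => by simp [coeffs]
  | a :: c => by
    rw [List.length_cons, coeffs, List.mem_flatMap]
    exact ⟨a, by revert a; decide, List.mem_map.2 ⟨c, mem_coeffs c, rfl⟩⟩

theorem mem_unitBlocks : ∀ cs : List (List (ZMod 2)), (∀ c ∈ cs, 0 < c.length) → detKey cs ≠ 0 →
    cs ∈ unitBlocks (cs.map List.length)
  | [], _, _ => by simp [unitBlocks]
  | [] :: _, hl, _ => absurd (hl [] List.mem_cons_self) (by simp)
  | (a :: c) :: cs, hl, hd => by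
    change (-1) ^ ((a :: c).length - 1) * (a :: c).getD 0 0 * detKey cs ≠ 0 at hd
    rw [mul_ne_zero_iff, mul_ne_zero_iff] at hd
    obtain rfl : a = 1 := (show ∀ x : ZMod 2, x ≠ 0 → x = 1 by decide) a (by simpa using hd.1.2)
    rw [List.map_cons, unitBlocks, List.mem_flatMap]
    exact ⟨_, List.mem_map.2 ⟨c, by simpa using mem_coeffs c, rfl⟩, List.mem_map.2
      ⟨cs, mem_unitBlocks cs (fun x hx => hl x (List.mem_cons_of_mem _ hx)) hd.2, rfl⟩⟩

/-- Checking one shape, `none` only on `skip`. -/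
def chkShape (n : ℕ) (Ls : List ℕ) (skip : List (List (List (ZMod 2)))) :
    List (List (List (ZMod 2))) → List (Option BCert) → Bool
  | [], [] => true
  | k :: ks, some c :: ts => chkB n Ls k c && chkShape n Ls skip ks ts
  | k :: ks, none :: ts => skip.contains k && chkShape n Ls skip ks ts
  | _, _ => false

/-- Checking all shapes. -/
def chkShapes (n : ℕ) (Ls : List ℕ) (skip : List (List (List (ZMod 2)))) :
    List (List ℕ) → List (List (Option BCert)) → Bool
  | [], [] => true
  | s :: ss, t :: ts => chkShape n Ls skip (unitBlocks s) t && chkShapes n Ls skip ss ts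
  | _, _ => false

theorem chkShape_spec (n : ℕ) (Ls : List ℕ) (skip : List (List (List (ZMod 2)))) :
    ∀ (ks : List (List (List (ZMod 2)))) (ts : List (Option BCert)),
      chkShape n Ls skip ks ts = true → ∀ k ∈ ks, (∃ c, chkB n Ls k c = true) ∨ k ∈ skip
  | [], _, _, k, hk => by simp at hk
  | _ :: _, [], h, _, _ => by simp [chkShape] at h
  | a :: ks, t :: ts, h, k, hk => by
    cases t with
    | none =>
      simp only [chkShape, Bool.and_eq_true, List.contains_iff_mem] at h
      rcases List.mem_cons.1 hk with rfl | hk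
      · exact Or.inr h.1
      · exact chkShape_spec n Ls skip ks ts h.2 k hk
    | some c =>
      simp only [chkShape, Bool.and_eq_true] at h
      rcases List.mem_cons.1 hk with rfl | hk
      · exact Or.inl ⟨c, h.1⟩
      · exact chkShape_spec n Ls skip ks ts h.2 k hk

theorem chkShapes_spec (n : ℕ) (Ls : List ℕ) (skip : List (List (List (ZMod 2)))) :
    ∀ (ss : List (List ℕ)) (ts : List (List (Option BCert))),
      chkShapes n Ls skip ss ts = true → ∀ s ∈ ss, ∀ k ∈ unitBlocks s,
        (∃ c, chkB n Ls k c = true) ∨ k ∈ skip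
  | [], _, _, s, hs => by simp at hs
  | _ :: _, [], h, _, _ => by simp [chkShapes] at h
  | a :: ss, t :: ts, h, s, hs => by
    simp only [chkShapes, Bool.and_eq_true] at h
    rcases List.mem_cons.1 hs with rfl | hs
    · exact chkShape_spec n Ls skip _ t h.1
    · exact chkShapes_spec n Ls skip ss ts h.2 s hs

end CfsgLib.KnownB.OreOmegaPlus
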