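import Cfsg.Agent.Lib.KnownB.OreOmegaPlus.BinaryBase

/-!
Twists avoiding inverse roots in every dimension at least six over the field with two elements.
-/

set_option autoImplicit false
set_option maxRecDepth 100000

namespace CfsgLib.KnownB.OreOmegaPlus

open Module Polynomial CfsgLib.KnownB.Sourour CfsgLib.KnownB.OreSp CfsgLib.KnownB.OreOmega

variable {V : Type} [AddCommGroup V] [Module (ZMod 2) V] [FiniteDimensional (ZMod 2) V]

/-- A twist killed by a polynomial avoiding inverse roots. -/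
def GoodBin (A : End (ZMod 2) V) : Prop :=
  ∃ P : (ZMod 2)[X], Sep P ∧ P.natDegree ≤ finrank (ZMod 2) V ∧ Killed P A

/-- Dimension four, apart from transvections. -/
theorem base_bin_four (hV : finrank (ZMod 2) V = 4) (A : End (ZMod 2) V)
    (hdet : LinearMap.det A = 1)
    (hA : A = 1 ∨ 2 ≤ finrank (ZMod 2) (LinearMap.range (A - 1))) : Killed k4 A := by
  rcases killed_of_table hV A hdet bcheck_four with ⟨l, hl, h⟩ | ⟨cs, hcs, B, rfl⟩
  · obtain rfl : l = 0 := by simp [fourKinds] at hl; omega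
    obtain ⟨h1, h2⟩ := class_comp [1, 1, 0, 0] (L := fourKinds.getD 0 0) (by decide +kernel)
      (by simp) (by simp)
    exact col_k4 ▸ h _ h1 h2
  · exfalso
    exact base_bin_three.not_tv B (by simpa [tvSkip] using hcs) (by decide +kernel)
      (by decide +kernel) hA

/-- Dimension five, apart from transvections. -/
theorem base_bin_five (hV : finrank (ZMod 2) V = 5) (A : End (ZMod 2) V)
    (hdet : LinearMap.det A = 1)
    (hA : A = 1 ∨ 2 ≤ finrank (ZMod 2) (LinearMap.range (A - 1))) : Killed k5 A := by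
  rcases killed_of_table hV A hdet bcheck_five with ⟨l, hl, h⟩ | ⟨cs, hcs, B, rfl⟩
  · obtain rfl : l = 0 := by simp [fiveKinds] at hl; omega
    obtain ⟨h1, h2⟩ := class_comp [1, 0, 1, 0, 0] (L := fiveKinds.getD 0 0) (by decide +kernel)
      (by simp) (by simp)
    exact col_k5 ▸ h _ h1 h2
  · exfalso
    exact base_bin_three.not_tv B (by simpa [tvSkip] using hcs) (by decide +kernel)
      (by decide +kernel) hA

theorem base_bin_six (hV : finrank (ZMod 2) V = 6) (A : End (ZMod 2) V)
    (hdet : LinearMap.det A = 1) : Killed k6 A ∨ Killed k6t A := by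
  rcases killed_of_table hV A hdet bcheck_six with ⟨l, hl, h⟩ | ⟨cs, hcs, -⟩
  · rcases (show l = 0 ∨ l = 1 by simp [sixKinds] at hl; omega) with rfl | rfl
    · obtain ⟨h1, h2⟩ := class_comp [1, 1, 0, 0, 0, 0] (L := sixKinds.getD 0 0)
        (by decide +kernel) (by simp) (by simp)
      exact Or.inl (col_k6 ▸ h _ h1 h2)
    · obtain ⟨h1, h2⟩ := class_comp [1, 0, 1, 0, 0, 0] (L := sixKinds.getD 1 0)
        (by decide +kernel) (by simp) (by simp)
      exact Or.inr (col_k6t ▸ h _ h1 h2)
  · simp at hcs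

theorem base_bin_seven (hV : finrank (ZMod 2) V = 7) (A : End (ZMod 2) V)
    (hdet : LinearMap.det A = 1) : Killed k7 A ∨ Killed k7t A := by
  rcases killed_of_table hV A hdet bcheck_seven with ⟨l, hl, h⟩ | ⟨cs, hcs, -⟩
  · rcases (show l = 0 ∨ l = 1 by simp [sevenKinds] at hl; omega) with rfl | rfl
    · obtain ⟨h1, h2⟩ := class_comp [1, 1, 0, 0, 0, 0, 0] (L := sevenKinds.getD 0 0)
        (by decide +kernel) (by simp) (by simp)
      exact Or.inl (col_k7 ▸ h _ h1 h2)
    · obtain ⟨h1, h2⟩ := class_comp [1, 0, 1, 1, 0, 1, 0] (L := sevenKinds.getD 1 0)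
        (by decide +kernel) (by simp) (by simp)
      exact Or.inr (col_k7t ▸ h _ h1 h2)
  · simp at hcs

theorem base_bin_eight (hV : finrank (ZMod 2) V = 8) (A : End (ZMod 2) V)
    (hdet : LinearMap.det A = 1) : Killed k8 A ∨ Killed k8t A := by
  rcases killed_of_table hV A hdet bcheck_eight with ⟨l, hl, h⟩ | ⟨cs, hcs, -⟩
  · rcases (show l = 0 ∨ l = 1 by simp [eightKinds] at hl; omega) with rfl | rfl
    · obtain ⟨h1, h2⟩ := class_comp [1, 0, 1, 1, 1, 0, 0, 0] (L := eightKinds.getD 0 0)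
        (by decide +kernel) (by simp) (by simp)
      exact Or.inl (col_k8 ▸ h _ h1 h2)
    · obtain ⟨h1, h2⟩ := class_comp [1, 0, 1, 0, 0, 0, 0, 0] (L := eightKinds.getD 1 0)
        (by decide +kernel) (by simp) (by simp)
      exact Or.inr (col_k8t ▸ h _ h1 h2)
  · simp at hcs

theorem base_bin_nine (hV : finrank (ZMod 2) V = 9) (A : End (ZMod 2) V)
    (hdet : LinearMap.det A = 1) : Killed k9 A ∨ Killed k9t A := by
  rcases killed_of_table hV A hdet bcheck_nine with ⟨l, hl, h⟩ | ⟨cs, hcs, -⟩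
  · rcases (show l = 0 ∨ l = 1 by simp [nineKinds] at hl; omega) with rfl | rfl
    · obtain ⟨h1, h2⟩ := class_comp [1, 0, 0, 0, 1, 0, 0, 0, 0] (L := nineKinds.getD 0 0)
        (by decide +kernel) (by simp) (by simp)
      exact Or.inl (col_k9 ▸ h _ h1 h2)
    · obtain ⟨h1, h2⟩ := class_comp [1, 1, 1, 1, 1, 1, 0, 0, 0] (L := nineKinds.getD 1 0)
        (by decide +kernel) (by simp) (by simp)
      exact Or.inr (col_k9t ▸ h _ h1 h2)
  · simp at hcs

/-- A step with a companion block. -/
theorem step_bin_comp (A : End (ZMod 2) V) (hdet : LinearMap.det A = 1) (c : List (ZMod 2))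
    (hc : 0 < c.length) (h0 : c.getD 0 0 = 1) (h2 : 2 * c.length ≤ finrank (ZMod 2) V)
    (h3 : 3 * c.length ≤ finrank (ZMod 2) V + 2)
    (ih : ∀ (U : Submodule (ZMod 2) V) (M : End (ZMod 2) U),
      finrank (ZMod 2) U + c.length = finrank (ZMod 2) V → LinearMap.det M = 1 →
        ∃ P Q, IsCoprime (colPoly c) P ∧ Killed P M ∧ colPoly c * P = Q ∧ Sep Q ∧
          Q.natDegree ≤ finrank (ZMod 2) V) :
    GoodBin A := by
  obtain ⟨W, hW, hd⟩ := exists_top_two A hdet c.length h2 h3
  obtain ⟨U, M, hdim, hM, hstep⟩ := step A one_ne_zero hd hdet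
  obtain ⟨P, Q, hco, ⟨T, hT⟩, hPQ, hQ, hdeg⟩ :=
    ih U M (by rw [← hW, hdim]) (by rw [hM, one_pow, inv_one])
  have hu : IsUnit (OreOmega.comp c).det := by
    rw [det_comp c hc, h0, mul_one]
    exact (pow_ne_zero _ (by decide : (-1 : ZMod 2) ≠ 0)).isUnit
  let L : End (ZMod 2) (Fin c.length → ZMod 2) := Matrix.toLin' (OreOmega.comp c)
  let β : Block (ZMod 2) (Fin c.length → ZMod 2) (1 : ZMod 2) :=
    { B := L
      Bi := Matrix.toLin' (OreOmega.comp c)⁻¹
      h1 := by
        rw [Module.End.mul_eq_comp, ← Matrix.toLin'_mul, Matrix.mul_nonsing_inv _ hu,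
          Matrix.toLin'_one]; rfl
      h2 := by
        rw [Module.End.mul_eq_comp, ← Matrix.toLin'_mul, Matrix.nonsing_inv_mul _ hu,
          Matrix.toLin'_one]; rfl
      e := LinearEquiv.refl _ _
      hc := by
        rw [one_smul]
        exact LinearMap.ext fun v => by simp
      g := colPoly c
      hg := by
        rw [show aeval L (colPoly c) = Matrix.toLin' (aeval (OreOmega.comp c) (colPoly c)) from
          Polynomial.aeval_algHom_apply (Matrix.toLinAlgEquiv'.toAlgHom) (OreOmega.comp c)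
            (colPoly c), aeval_comp_col, map_zero] }
  have hinj : Function.Injective (aeval T.L β.g) := by
    obtain ⟨u, v, huv⟩ := hco
    have h1 : aeval T.L u * aeval T.L β.g = 1 := by
      rw [← map_mul, show u * β.g = 1 - v * P by rw [← huv]; simp only [β]; ring, map_sub, map_one,
        map_mul, hT, mul_zero, sub_zero]
    exact Function.LeftInverse.injective (g := aeval T.L u) fun w => LinearMap.congr_fun h1 w
  obtain ⟨T', -, h⟩ := hstep β (by rw [Module.finrank_pi, Fintype.card_fin, hW]) T hinj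
  exact ⟨Q, hQ, hdeg, T', hPQ ▸ h P hT⟩

theorem good_bin_ten (hV : finrank (ZMod 2) V = 10) (A : End (ZMod 2) V)
    (hdet : LinearMap.det A = 1) : GoodBin A := by
  refine step_bin_comp A hdet [1, 1, 0, 0] (by simp) (by simp) (by simp [hV]) (by simp [hV])
    fun U M hU hM => ?_
  simp only [List.length_cons, List.length_nil] at hU
  rcases base_bin_six (by omega) M hM with h | h
  · exact ⟨k6, k10, by rw [col_k4]; exact coprime_k10, h, by rw [col_k4]; exact mul_k10, sep_k10,
      natDegree_k10.trans hV.ge⟩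
  · exact ⟨k6t, k10t, by rw [col_k4]; exact coprime_k10t, h, by rw [col_k4]; exact mul_k10t,
      sep_k10t, natDegree_k10t.trans hV.ge⟩

theorem good_bin_eleven (hV : finrank (ZMod 2) V = 11) (A : End (ZMod 2) V)
    (hdet : LinearMap.det A = 1) : GoodBin A := by
  refine step_bin_comp A hdet [1, 1, 0] (by simp) (by simp) (by simp [hV]) (by simp [hV])
    fun U M hU hM => ?_
  simp only [List.length_cons, List.length_nil] at hU
  rcases base_bin_eight (by omega) M hM with h | h
  · exact ⟨k8, k11, by rw [col_k3]; exact coprime_k11, h, by rw [col_k3]; exact mul_k11, sep_k11,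
      natDegree_k11.trans hV.ge⟩
  · exact ⟨k8t, k11t, by rw [col_k3]; exact coprime_k11t, h, by rw [col_k3]; exact mul_k11t,
      sep_k11t, natDegree_k11t.trans hV.ge⟩

theorem good_bin_twelve (hV : finrank (ZMod 2) V = 12) (A : End (ZMod 2) V)
    (hdet : LinearMap.det A = 1) : GoodBin A := by
  refine step_bin_comp A hdet [1, 1, 0] (by simp) (by simp) (by simp [hV]) (by simp [hV])
    fun U M hU hM => ?_
  simp only [List.length_cons, List.length_nil] at hU
  rcases base_bin_nine (by omega) M hM with h | h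
  · exact ⟨k9, k12, by rw [col_k3]; exact coprime_k12, h, by rw [col_k3]; exact mul_k12, sep_k12,
      natDegree_k12.trans hV.ge⟩
  · exact ⟨k9t, k12t, by rw [col_k3]; exact coprime_k12t, h, by rw [col_k3]; exact mul_k12t,
      sep_k12t, natDegree_k12t.trans hV.ge⟩

section field

variable {G : Type} [Field G] [Algebra (ZMod 2) G] [FiniteDimensional (ZMod 2) G]

theorem bin_pow_of_root {α β : G} (h : aeval β (minpoly (ZMod 2) α) = 0) :
    ∃ i : ℕ, α ^ (2 ^ i) = β := by
  have : Finite G := Module.finite_of_finite (ZMod 2)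
  have : Algebra.IsAlgebraic (ZMod 2) G := Algebra.IsAlgebraic.of_finite (ZMod 2) G
  obtain ⟨σ, hσ⟩ := minpoly.exists_algEquiv_of_root'
    (Algebra.IsAlgebraic.isAlgebraic α) h
  obtain ⟨i, hi⟩ := (FiniteField.bijective_frobeniusAlgEquivOfAlgebraic_pow (ZMod 2) G).2 σ
  refine ⟨(i : ℕ), ?_⟩
  rw [← hσ, ← hi, AlgEquiv.coe_pow, FiniteField.coe_frobeniusAlgEquivOfAlgebraic, pow_iterate,
    ZMod.card]

theorem bin_root_transfer {α : G} {Q : (ZMod 2)[X]} {z : AlgebraicClosure (ZMod 2)}
    (hz : aeval z (minpoly (ZMod 2) α) = 0) (hQ : aeval z Q = 0) : aeval α Q = 0 := by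
  have hint : IsIntegral (ZMod 2) α := Algebra.IsIntegral.isIntegral α
  have h := minpoly.eq_of_irreducible_of_monic (minpoly.irreducible hint) hz (minpoly.monic hint)
  exact (minpoly.dvd_iff).1 (h ▸ minpoly.dvd _ _ hQ)

theorem bin_inverse_transfer {α : G} (hα : α ≠ 0) {P : (ZMod 2)[X]}
    {z : AlgebraicClosure (ZMod 2)} (hz : aeval z (minpoly (ZMod 2) α) = 0)
    (hP : aeval z⁻¹ P = 0) : aeval α⁻¹ P = 0 := by
  have hz0 : z ≠ 0 := fun h => by
    subst h
    rw [← coeff_zero_eq_aeval_zero', map_eq_zero] at hz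
    exact minpoly.coeff_zero_ne_zero (Algebra.IsIntegral.isIntegral α) hα hz
  exact (aeval_reverse_eq_zero hα).1 (bin_root_transfer hz ((aeval_reverse_eq_zero hz0).2 hP))

theorem bin_no_conj [Fintype G] {k : ℕ} (hc : Fintype.card G = 2 ^ k) (hk : Odd k) {α : G}
    (hα : α ≠ 0) (h1 : α ≠ 1) (i : ℕ) : α ^ (2 ^ i) ≠ α⁻¹ := by
  intro hi
  obtain ⟨t, rfl⟩ := hk
  have h : ∀ s : ℕ, α ^ (2 ^ (i * (2 * s + 1))) = α⁻¹ := by
    intro s
    induction s with
    | zero => rwa [mul_zero, zero_add, mul_one]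
    | succ s ih =>
      rw [show i * (2 * (s + 1) + 1) = i * (2 * s + 1) + (i + i) by ring, pow_add, pow_mul, ih,
        pow_add, pow_mul, inv_pow, hi, inv_inv, hi]
  have h2 := FiniteField.pow_card_pow i α
  rw [hc, ← pow_mul, mul_comm (2 * t + 1) i, h t] at h2
  have hsq : α * α = 1 := by
    conv_lhs => arg 2; rw [← h2]
    exact mul_inv_cancel₀ hα
  have : CharP G 2 := charP_of_injective_algebraMap (algebraMap (ZMod 2) G).injective 2
  have h3 : (α - 1) * (α - 1) = 0 := by
    linear_combination hsq - (α - 1) * (CharP.cast_eq_zero G 2 : ((2 : ℕ) : G) = 0)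
  exact h1 (sub_eq_zero.1 (mul_self_eq_zero.1 h3))

end field

/-- A step with a field element of odd degree. -/
theorem step_bin_field (A : End (ZMod 2) V) (hdet : LinearMap.det A = 1) {k : ℕ} (hk : Odd k)
    (h2 : 2 * k ≤ finrank (ZMod 2) V) (h3 : 3 * k ≤ finrank (ZMod 2) V + 2)
    (hbound : 2 * (finrank (ZMod 2) V - k) + 2 < 2 ^ k)
    (ih : ∀ (U : Submodule (ZMod 2) V) (M : End (ZMod 2) U),
      finrank (ZMod 2) U + k = finrank (ZMod 2) V → LinearMap.det M = 1 → GoodBin M) :
    GoodBin A := by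
  classical
  obtain ⟨W, hW, hd⟩ := exists_top_two A hdet k h2 h3
  obtain ⟨U, M, hdim, hM, hstep⟩ := step A one_ne_zero hd hdet
  obtain ⟨P, hs, hPd, T, hT⟩ := ih U M (by rw [← hW, hdim]) (by rw [hM, one_pow, inv_one])
  have hk0 : k ≠ 0 := by rintro rfl; simp at hk
  let G := GaloisField 2 k
  let _ft : Fintype G := Fintype.ofFinite _
  have hcard : Fintype.card G = 2 ^ k := by
    rw [← Nat.card_eq_fintype_card]; exact GaloisField.card 2 _ hk0
  have hP0 := hs.ne_zero
  have hR : P * P.reverse ≠ 0 := mul_ne_zero hP0 (by rwa [ne_eq, reverse_eq_zero])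
  obtain ⟨α, hα, hPα⟩ := exists_not_root hR (((Finset.univ : Finset G).erase 0).erase 1) (by
    rw [Finset.card_erase_of_mem (by simp), Finset.card_erase_of_mem (Finset.mem_univ _),
      Finset.card_univ, hcard]
    have h1 := natDegree_mul_le (p := P) (q := P.reverse)
    have h2 : P.reverse.natDegree ≤ P.natDegree := reverse_natDegree_le P
    omega)
  obtain ⟨hα1, hα'⟩ := Finset.mem_erase.1 hα
  obtain ⟨hα0, -⟩ := Finset.mem_erase.1 hα'
  rw [map_mul, mul_ne_zero_iff] at hPα
  have hPi : aeval α⁻¹ P ≠ 0 := fun e => hPα.2 ((aeval_reverse_eq_zero hα0).2 e)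
  obtain ⟨T', -, h⟩ := hstep (blockI (ZMod 2) hα0) (by rw [GaloisField.finrank 2 hk0, hW]) T
    (injective_minpoly hT hPα.1)
  refine ⟨minpoly (ZMod 2) α * P, Sep.mul (fun z hz hz' => ?_) hs
    (fun z hz hz' => hPi (bin_inverse_transfer hα0 hz hz')), ?_, T', h P hT⟩
  · obtain ⟨i, hi⟩ := bin_pow_of_root (bin_inverse_transfer hα0 hz hz')
    exact bin_no_conj hcard hk hα0 hα1 i hi
  · refine natDegree_mul_le.trans ?_
    have h1 := minpoly.natDegree_le (A := ZMod 2) α
    rw [show finrank (ZMod 2) G = k from GaloisField.finrank 2 hk0] at h1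
    omega

theorem bound_bin : ∀ t : ℕ, 2 * (2 * (2 * t + 5) + 3) + 2 < 2 ^ (2 * t + 5)
  | 0 => by norm_num
  | t + 1 => by
    have := bound_bin t
    rw [show 2 * (t + 1) + 5 = 2 * t + 5 + 2 by ring, pow_add]
    omega

/-- Dimension at least six. -/
theorem good_bin_main (n : ℕ) : ∀ {V : Type} [AddCommGroup V] [Module (ZMod 2) V]
    [FiniteDimensional (ZMod 2) V], finrank (ZMod 2) V = n → 6 ≤ n →
      ∀ A : End (ZMod 2) V, LinearMap.det A = 1 → GoodBin A := by
  induction n using Nat.strong_induction_on with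
  | _ n ih =>
    intro V _ _ _ hV hn A hdet
    rcases Nat.lt_or_ge n 13 with h13 | h13
    · interval_cases n
      · rcases base_bin_six hV A hdet with h | h
        · exact ⟨k6, sep_k6, natDegree_k6.trans hV.ge, h⟩
        · exact ⟨k6t, sep_k6t, natDegree_k6t.trans hV.ge, h⟩
      · rcases base_bin_seven hV A hdet with h | h
        · exact ⟨k7, sep_k7, natDegree_k7.trans hV.ge, h⟩
        · exact ⟨k7t, sep_k7t, natDegree_k7t.trans hV.ge, h⟩
      · rcases base_bin_eight hV A hdet with h | h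
        · exact ⟨k8, sep_k8, natDegree_k8.trans hV.ge, h⟩
        · exact ⟨k8t, sep_k8t, natDegree_k8t.trans hV.ge, h⟩
      · rcases base_bin_nine hV A hdet with h | h
        · exact ⟨k9, sep_k9, natDegree_k9.trans hV.ge, h⟩
        · exact ⟨k9t, sep_k9t, natDegree_k9t.trans hV.ge, h⟩
      · exact good_bin_ten hV A hdet
      · exact good_bin_eleven hV A hdet
      · exact good_bin_twelve hV A hdet
    · obtain ⟨t, ht1, ht2⟩ : ∃ t, 3 * (2 * t + 5) ≤ n + 2 ∧ n ≤ 3 * (2 * t + 5) + 3 :=
        ⟨(n - 13) / 6, by omega, by omega⟩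
      refine step_bin_field A hdet ⟨t + 2, by ring⟩ (k := 2 * t + 5) (by omega) (by omega) ?_
        fun U M hU hM => ih _ (by omega) rfl (by omega) M hM
      have := bound_bin t
      omega

end CfsgLib.KnownB.OreOmegaPlus
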