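import Cfsg.Agent.Lib.KnownB.OreOmegaPlus.BinaryKeys

/-!
Certificates in dimension 3 over the field with two elements.
-/

set_option autoImplicit false

namespace CfsgLib.KnownB.OreOmegaPlus

/-- Companion matrices of the classes used. -/
def threeKinds : List ℕ := [172]

/-- Certificates of the shape 3. -/
def threeRows0 : List (Option BCert) := [
  some (0, 140, 247, 114, 204, 346, 459),
  some (0, 396, 106, 459, 346, 421, 179),
  some (0, 172, 370, 417, 177, 380, 117),
  some (0, 428, 187, 275, 275, 382, 499)]

/-- Certificates of the shape 2, 1. -/
def threeRows1 : List (Option BCert) := [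
  none,
  some (0, 282, 335, 226, 141, 205, 242)]

/-- Certificates of the shape 1, 1, 1. -/
def threeRows2 : List (Option BCert) := [
  some (0, 273, 335, 379, 247, 229, 187)]

/-- All certificates in dimension 3. -/
def threeRows : List (List (Option BCert)) :=
  [threeRows0, threeRows1, threeRows2]

end CfsgLib.KnownB.OreOmegaPlus
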