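import Cfsg.Agent.Lib.KnownB.OreOmegaPlus.Basic
import Cfsg.Agent.Lib.KnownB.Thompson.Plus

/-!
Commutators in `Ω⁺` from the corner property.
-/

set_option autoImplicit false

namespace CfsgLib.KnownB.OreOmegaPlus

open Matrix QuadraticMap CfsgLib.Thompson CfsgLib.Geometry CfsgLib.KnownB.OreSp

variable {F : Type*} [Field F] [Fintype F] {m : ℕ} (hF : GoodForm (qP m F))

include hF

/-- The elements of trivial invariant as a subgroup of matrices satisfy the big cell hypotheses. -/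
theorem subSpec (hm : 3 ≤ m) {Z : GL (Fin m) F} (hZ : CfsgLib.KnownB.OreOmega.MovesAlt Z.1) :
    SubSpec false (Cfsg.isometryGroup F ⇑(qP m F))
      (hF.invt.ker.map (Cfsg.isometryGroup F ⇑(qP m F)).subtype) := by
  set Γ := hF.invt.ker.map (Cfsg.isometryGroup F ⇑(qP m F)).subtype
  have memΓ : ∀ {g : GL (Fin m ⊕ Fin m) F} (hg : g ∈ Cfsg.isometryGroup F ⇑(qP m F)),
      g ∈ Γ ↔ hF.invt ⟨g, hg⟩ = 1 := by
    intro g hg
    exact ⟨fun ⟨x, hx, e⟩ => by subst e; exact hx, fun h => ⟨⟨g, hg⟩, h, rfl⟩⟩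
  have hG : Spec false (Cfsg.isometryGroup F ⇑(qP m F)) := Spec.plus
  have hlev : ∀ (M : GL (Fin m) F), hF.invt (levO m F M) =
      (sqMk ((Matrix.isUnit_iff_isUnit_det _).1 M.isUnit).ne_zero, 1) := fun M =>
    invt_levi hF hm M _ rfl
  exact
    { le := Subgroup.map_subtype_le _
      norm := fun x hx g hg => by
        obtain ⟨g', hg', rfl⟩ := hg
        exact (memΓ (mul_mem (mul_mem hx g'.2) (inv_mem hx))).2
          ((hF.invt_conj ⟨x, hx⟩ g').trans hg')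
      up := fun S hS => (memΓ (hG.upM_mem.2 hS)).2 (invt_unip_alt hF hZ hS).1
      lo := fun S hS => (memΓ (hG.loM_mem.2 hS)).2 (invt_unip_alt hF hZ hS).2
      square := fun _ M h => by
        have h1 := (hlev M).symm.trans ((memΓ (hG.levH_mem M)).1 h)
        exact (sqMk_eq_one_iff _).1 (congrArg Prod.fst h1)
      parity := fun _ j s hs es M h => by
        obtain ⟨s', c, hs', es'⟩ := exists_swap hF j
        have h1 : hF.invt (levO m F M * ⟨s, hs⟩) = 1 :=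
          (memΓ (mul_mem (hG.levH_mem M) hs)).1 h
        rw [map_mul, hlev, hF.invt_eq_of ⟨s, hs⟩ s' (es.trans es'.symm), hs'] at h1
        exact absurd (congrArg Prod.snd h1) (by
          rw [Prod.mk_mul_mk, one_mul]; exact (by decide : (Multiplicative.ofAdd (1 : ZMod 2)) ≠ 1))
      swap := fun _ j => by
        obtain ⟨s', c, -, es'⟩ := exists_swap hF j
        exact ⟨s'.1, s'.2, es'⟩ }

/-- Away from `-1`, corners give commutators. -/
theorem comm_of_corners (hm : 3 ≤ m) (hC : CornersPlus m F)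
    {g : Cfsg.isometryGroup F ⇑(qP m F)} (hg : hF.invt g = 1) (h2 : g.1.1 ≠ -1) :
    ∃ a b : Cfsg.isometryGroup F ⇑(qP m F),
      hF.invt a = 1 ∧ hF.invt b = 1 ∧ g = a * b * a⁻¹ * b⁻¹ := by
  by_cases h1 : g.1.1 = 1
  · exact ⟨1, 1, map_one _, map_one _, by
      rw [show g = 1 from Subtype.ext (Units.ext h1)]; group⟩
  obtain ⟨X₁, P₁, hmv₁, -, hX₁, -, -, -⟩ := hC 1 det_one (Or.inl rfl)
  let Z := Matrix.GeneralLinearGroup.mkOfDetNeZero X₁ hX₁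
  have hΓ := subSpec hF hm (Z := Z) hmv₁
  obtain ⟨x₀, hx₀, v, hv, w, hw, M, hMd, hMns, e⟩ := exists_big Spec.plus hΓ (by omega)
    (fun _ => hm) (g := g.1) ⟨g, hg, rfl⟩ h1 h2
  obtain ⟨X, P, hmv, hXs, hX0, hPs, hP0, hcom⟩ := hC M.1 hMd (Or.inr hMns)
  let X' := Matrix.GeneralLinearGroup.mkOfDetNeZero X hX0
  let P' := Matrix.GeneralLinearGroup.mkOfDetNeZero P hP0
  have hM : M = X' * P' * X'⁻¹ * P'⁻¹ := by
    rw [eq_mul_inv_iff_mul_eq, eq_mul_inv_iff_mul_eq, mul_assoc]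
    exact Units.ext hcom
  obtain ⟨hv1, T, rfl⟩ := hv
  obtain ⟨hw1, S, rfl⟩ := hw
  have hT : IsA false T := Spec.plus.loM_mem.1 hv1
  have hS : IsA false S := Spec.plus.upM_mem.1 hw1
  -- absorb the lower factor
  obtain ⟨T₀, hT₀, eT⟩ := exists_stein_alt (fixed_eq_zero_alt_ti X' hmv) hT.neg
  -- absorb the upper factor
  set Y := P' * X' * P'⁻¹ with hY
  obtain ⟨S₀, hS₀, eS⟩ := exists_stein_alt (A := Y.1) (fun U hU eU => by
    have hY' : Y.1 = P'.1 * X * (P'⁻¹).1 := by rw [hY, Units.val_mul, Units.val_mul]; rfl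
    have h0 : (P'⁻¹).1 * U * (P'⁻¹).1ᵀ = 0 := by
      refine fixed_eq_zero_alt hmv _ (by simpa using hU.congr (P'⁻¹).1ᵀ) ?_
      conv_rhs => rw [← eU, hY']
      simp only [transpose_mul, Matrix.mul_assoc, Units.inv_mul_cancel_left]
      rw [show P'.1ᵀ * (P'⁻¹).1ᵀ = 1 by rw [← transpose_mul, Units.inv_mul, transpose_one],
        Matrix.mul_one]
    have h1 := congrArg (fun W => P'.1 * W * P'.1ᵀ) h0
    simp only [Matrix.mul_assoc, ← transpose_mul, Units.mul_inv, transpose_one, Matrix.mul_one,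
      Matrix.mul_zero, Matrix.zero_mul] at h1
    rwa [← Matrix.mul_assoc, Units.mul_inv, Matrix.one_mul] at h1) hS
  let G := Cfsg.isometryGroup F ⇑(qP m F)
  let v₀ : G := ⟨loM T₀, Spec.plus.loM_mem.2 hT₀⟩
  let w₀ : G := ⟨upM S₀, Spec.plus.upM_mem.2 hS₀⟩
  let x : G := levO m F X'
  let p : G := levO m F P'
  have hv' : (loM T : GL (Fin m ⊕ Fin m) F) = (v₀ * x * v₀⁻¹ * x⁻¹ : G).1 := by
    show loM T = loM T₀ * levH F m X' * (loM T₀)⁻¹ * (levH F m X')⁻¹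
    have h' : levH F m X' * (loM T₀)⁻¹ * (levH F m X')⁻¹ =
        (loM ((ti X').1 * T₀ * (ti X').1ᵀ))⁻¹ := by rw [← levH_conj_lo]; group
    rw [mul_assoc (loM T₀ * _), mul_assoc (loM T₀), ← mul_assoc (levH F m X'), h',
      eq_mul_inv_iff_mul_eq, loM_mul]
    congr 1
    linear_combination (norm := abel) eT
  have hw' : (upM S : GL (Fin m ⊕ Fin m) F) = (p * x * p⁻¹ * w₀ * (p * x⁻¹ * p⁻¹) * w₀⁻¹ : G).1 := by
    show upM S = levH F m P' * levH F m X' * (levH F m P')⁻¹ * upM S₀ *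
      (levH F m P' * (levH F m X')⁻¹ * (levH F m P')⁻¹) * (upM S₀)⁻¹
    rw [show levH F m P' * (levH F m X')⁻¹ * (levH F m P')⁻¹ = (levH F m Y)⁻¹ by
        rw [hY, map_mul, map_mul, map_inv]; group,
      show levH F m P' * levH F m X' * (levH F m P')⁻¹ = levH F m Y by
        rw [hY, map_mul, map_mul, map_inv],
      levH_conj_up, eq_mul_inv_iff_mul_eq, upM_mul]
    congr 1
    linear_combination (norm := abel) -eS
  let h : G := ⟨x₀, hx₀⟩
  have e' : h * g * h⁻¹ = (v₀ * x * v₀⁻¹ * x⁻¹) * (x * p * x⁻¹ * p⁻¹) *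
      (p * x * p⁻¹ * w₀ * (p * x⁻¹ * p⁻¹) * w₀⁻¹) := by
    apply Subtype.ext
    show x₀ * g.1 * x₀⁻¹ = (v₀ * x * v₀⁻¹ * x⁻¹ : G).1 * (x * p * x⁻¹ * p⁻¹ : G).1 *
      (p * x * p⁻¹ * w₀ * (p * x⁻¹ * p⁻¹) * w₀⁻¹ : G).1
    rw [← hv', ← hw', e, hM]
    simp only [map_mul, map_inv]
    rfl
  have hx1 : hF.invt x = 1 := invt_levi_square hF hm X' hXs
  have hp1 : hF.invt p = 1 := invt_levi_square hF hm P' hPs
  have hv₀ : hF.invt v₀ = 1 := (invt_unip_alt hF (Z := Z) hmv₁ hT₀).2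
  have hw₀ : hF.invt w₀ = 1 := (invt_unip_alt hF (Z := Z) hmv₁ hS₀).1
  refine ⟨h⁻¹ * (v₀ * x * v₀⁻¹) * h, h⁻¹ * (w₀ * p * v₀⁻¹) * h, ?_, ?_, ?_⟩
  · rw [show h⁻¹ * (v₀ * x * v₀⁻¹) * h = h⁻¹ * (v₀ * x * v₀⁻¹) * h⁻¹⁻¹ by rw [inv_inv],
      hF.invt_conj, hF.invt_conj, hx1]
  · rw [show h⁻¹ * (w₀ * p * v₀⁻¹) * h = h⁻¹ * (w₀ * p * v₀⁻¹) * h⁻¹⁻¹ by rw [inv_inv],
      hF.invt_conj, map_mul, map_mul, map_inv, hw₀, hp1, hv₀, inv_one, one_mul, one_mul]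
  · rw [show g = h⁻¹ * (h * g * h⁻¹) * h by group, e']
    group

end CfsgLib.KnownB.OreOmegaPlus
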