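import Cfsg.Agent.Lib.KnownB.OreOmega.DefsPlus
import Cfsg.Agent.Lib.KnownB.OreOmega.Big
import Cfsg.Agent.Lib.KnownB.OreOmegaPlus.Basic

/-!
Transvection corners over two elements in dimensions four and five, with a first factor having one
simple eigenvalue `1`.
-/

set_option autoImplicit false

namespace CfsgLib.KnownB.OreOmegaPlus

open Matrix Polynomial Module CfsgLib.KnownB.Sourour CfsgLib.KnownB.OreSp CfsgLib.KnownB.OreOmega

variable {F : Type*} [Field F]

theorem CornerPlus.reindex' {ι κ : Type*} [Fintype ι] [DecidableEq ι] [Fintype κ] [DecidableEq κ]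
    {M : Matrix ι ι F} (h : CornerPlus M) (e : ι ≃ κ) : CornerPlus (reindex e e M) := by
  obtain ⟨X, P, ⟨hX1, hX2⟩, hXs, hX0, hPs, hP0, he⟩ := h
  have back : ∀ T : Matrix κ κ F, Alt T → Alt (T.submatrix e e) := fun T hT => by
    refine ⟨?_, fun i => hT.2 _⟩
    rw [transpose_submatrix, hT.1]; rfl
  have zero : ∀ T : Matrix κ κ F, T.submatrix e e = 0 → T = 0 := fun T h => by
    have := congrArg (fun S => S.submatrix e.symm e.symm) h
    simpa using this
  refine ⟨reindex e e X, reindex e e P, ⟨fun T hT eq => ?_, fun T hT eq => ?_⟩, by simpa using hXs,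
    by simpa using hX0, by simpa using hPs, by simpa using hP0, ?_⟩
  · refine zero T (hX1 _ (back T hT) ?_)
    conv_rhs => rw [← eq]
    simp [← submatrix_mul_equiv _ _ _ e]
  · refine zero T (hX2 _ (back T hT) ?_)
    conv_rhs => rw [← eq]
    simp [← submatrix_mul_equiv _ _ _ e]
  · simp [he]

theorem CornerPlus.conj' {n : ℕ} {M : Matrix (Fin n) (Fin n) F} (h : CornerPlus M)
    (Q Qi : Matrix (Fin n) (Fin n) F) (h1 : Q * Qi = 1) :
    CornerPlus (Q * M * Qi) := by
  obtain ⟨X, P, ⟨hX1, hX2⟩, hXs, hX0, hPs, hP0, e⟩ := h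
  have h2 : Qi * Q = 1 := mul_eq_one_comm.1 h1
  have hd : ∀ Y : Matrix (Fin n) (Fin n) F, (Q * Y * Qi).det = Y.det := fun Y => by
    rw [det_mul, det_mul, mul_comm Q.det, mul_assoc, ← det_mul, h1, det_one, mul_one]
  have hm : ∀ Y Z : Matrix (Fin n) (Fin n) F, Q * Y * Qi * (Q * Z * Qi) = Q * (Y * Z) * Qi :=
    fun Y Z => by
      simp only [Matrix.mul_assoc]; rw [← Matrix.mul_assoc Qi Q, h2, Matrix.one_mul]
  have alt : ∀ (T R : Matrix (Fin n) (Fin n) F), Alt T → Alt (Rᵀ * T * R) := fun T R hT =>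
    let h := CfsgLib.Thompson.IsA.congr (sp := false) ⟨hT.1, fun _ => hT.2⟩ R
    ⟨h.1, h.2 rfl⟩
  refine ⟨Q * X * Qi, Q * P * Qi, ⟨fun T hT eq => ?_, fun T hT eq => ?_⟩, by rw [hd]; exact hXs,
    by rw [hd]; exact hX0, by rw [hd]; exact hPs, by rw [hd]; exact hP0, by rw [hm, hm, hm, e]⟩
  · have h0 : Qᵀ * T * Q = 0 := by
      refine hX1 _ (alt T Q hT) ?_
      conv_rhs => rw [← eq]
      simp only [transpose_mul, Matrix.mul_assoc, h2, Matrix.mul_one]
      rw [← Matrix.mul_assoc Qᵀ Qiᵀ, ← transpose_mul, h2, transpose_one, Matrix.one_mul]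
    have h0' := congrArg (fun S => Qiᵀ * S * Qi) h0
    simp only [Matrix.mul_assoc, h1, Matrix.mul_one, Matrix.mul_zero, Matrix.zero_mul] at h0'
    rwa [← Matrix.mul_assoc, ← transpose_mul, h1, transpose_one, Matrix.one_mul] at h0'
  · have h0 : Qi * T * Qiᵀ = 0 := by
      refine hX2 _ (by simpa using alt T Qiᵀ hT) ?_
      conv_rhs => rw [← eq]
      simp only [transpose_mul, Matrix.mul_assoc]
      rw [← Matrix.mul_assoc Qi Q, h2, Matrix.one_mul, ← transpose_mul Qi Q, h2, transpose_one,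
        Matrix.mul_one]
    have h0' := congrArg (fun S => Q * S * Qᵀ) h0
    simp only [Matrix.mul_assoc, ← transpose_mul, h1, transpose_one, Matrix.mul_one,
      Matrix.mul_zero, Matrix.zero_mul] at h0'
    rwa [← Matrix.mul_assoc, h1, Matrix.one_mul] at h0'

/-- One fixed line and a part apart from its reversal move all alternating forms. -/
theorem movesAlt_one_sum {κ : Type*} [Fintype κ] [DecidableEq κ] {C : Matrix κ κ F} {Φ : F[X]}
    (hΦ : Apart Φ) (hC : IsUnit C.det) (hz : aeval C Φ = 0) (h1 : IsUnit (C - 1).det) :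
    MovesAlt (fromBlocks (1 : Matrix (Fin 1) (Fin 1) F) 0 0 C) := by
  have h1' : IsUnit (Cᵀ - 1).det := by
    rw [← transpose_one, ← transpose_sub, det_transpose]; exact h1
  have key : ∀ (D : Matrix κ κ F), IsUnit (D - 1).det → IsUnit (Dᵀ - 1).det →
      (∀ S, Dᵀ * S * D = S → S = 0) → ∀ T : Matrix (Fin 1 ⊕ κ) (Fin 1 ⊕ κ) F, Alt T →
      (fromBlocks (1 : Matrix (Fin 1) (Fin 1) F) 0 0 D)ᵀ * T * fromBlocks 1 0 0 D = T → T = 0 := by
    intro D hu hu' hD T hT e
    obtain ⟨a, b, c, d, rfl⟩ : ∃ a b c d, T = fromBlocks a b c d :=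
      ⟨_, _, _, _, (fromBlocks_toBlocks T).symm⟩
    rw [fromBlocks_transpose, fromBlocks_multiply, fromBlocks_multiply] at e
    simp only [transpose_one, transpose_zero, Matrix.one_mul, Matrix.mul_one, Matrix.zero_mul,
      Matrix.mul_zero, add_zero, zero_add, fromBlocks_inj] at e
    obtain ⟨-, eb, ec, ed⟩ := e
    have ha : a = 0 := by
      ext i j
      rw [Subsingleton.elim j i]
      simpa using hT.2 (Sum.inl i)
    have hb : b = 0 := by
      have h : b * (D - 1) = 0 := by rw [Matrix.mul_sub, Matrix.mul_one, eb, sub_self]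
      have := congrArg (· * (D - 1)⁻¹) h
      simpa [Matrix.mul_assoc, Matrix.mul_nonsing_inv _ hu] using this
    have hc : c = 0 := by
      have h : (Dᵀ - 1) * c = 0 := by rw [Matrix.sub_mul, Matrix.one_mul, ec, sub_self]
      have := congrArg ((Dᵀ - 1)⁻¹ * ·) h
      simpa [← Matrix.mul_assoc, Matrix.nonsing_inv_mul _ hu'] using this
    rw [ha, hb, hc, hD d ed, fromBlocks_zero]
  constructor
  · exact key C h1 h1' fun S => eq_zero_of_form hΦ hC hz
  · intro T hT e
    refine key Cᵀ h1' (by rwa [transpose_transpose]) (fun S => eq_zero_of_form hΦ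
      (isUnit_det_transpose _ hC) (by rw [aeval_transpose, hz, transpose_zero])) T hT ?_
    simpa [fromBlocks_transpose] using e

/-- Transvection corners when every element is a square. -/
theorem cornerPlus_transvection (sq : ∀ x : F, IsSquare x) {k : ℕ} (hk : 1 ≤ k)
    {C : Matrix (Fin k) (Fin k) F} {Φ : F[X]} (hΦ : Apart Φ) (hC : IsUnit C.det)
    (hz : aeval C Φ = 0) (h1 : IsUnit (C - 1).det) (M : Matrix (Fin (1 + k)) (Fin (1 + k)) F)
    (hM : M.det = 1) (hne : M ≠ 1) (hr : (M - 1).rank < 2) : CornerPlus M := by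
  classical
  let σ : Fin 1 ⊕ Fin k ≃ Fin (1 + k) := finSumFinEquiv
  let j0 : Fin k := ⟨0, by omega⟩
  let B : Matrix (Fin 1) (Fin k) F := Matrix.single 0 j0 1
  let z : Matrix (Fin 1) (Fin k) F := -(B * C * (C - 1)⁻¹)
  have base : CornerPlus (fromBlocks 1 B 0 1) := by
    refine ⟨fromBlocks 1 0 0 C, fromBlocks 1 z 0 1, movesAlt_one_sum hΦ hC hz h1, sq _, ?_, sq _,
      ?_, ?_⟩
    · rw [det_fromBlocks_zero₂₁, det_one, one_mul]; exact hC.ne_zero
    · rw [det_fromBlocks_zero₂₁, det_one, det_one, mul_one]; exact one_ne_zero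
    · rw [fromBlocks_multiply, fromBlocks_multiply, fromBlocks_multiply]
      simp only [Matrix.one_mul, Matrix.mul_one, Matrix.zero_mul, Matrix.mul_zero, add_zero,
        zero_add, fromBlocks_inj, and_true, true_and]
      have e : z * (C - 1) = -(B * C) := by
        rw [Matrix.neg_mul, Matrix.mul_assoc, Matrix.nonsing_inv_mul _ h1, Matrix.mul_one]
      rw [Matrix.mul_sub, Matrix.mul_one] at e
      linear_combination (norm := abel) e
  set M0 : Matrix (Fin (1 + k)) (Fin (1 + k)) F := Matrix.reindex σ σ (fromBlocks 1 B 0 1) with hM0d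
  have hM0 : CornerPlus M0 := CornerPlus.reindex' base σ
  obtain ⟨f, u, hf, hu, hfu, hAt⟩ := exists_transvection (toLin' M)
    (by rw [LinearMap.det_toLin', hM])
    (fun h => hne (Matrix.toLin'.injective (by rw [Matrix.toLin'_one, ← Module.End.one_eq_id, h])))
    (by
      have e1 : toLin' M - 1 = (M - 1).mulVecLin := LinearMap.ext fun v => by simp
      rw [e1]; exact hr)
  let u₀ : Fin (1 + k) → F := Pi.single (σ (Sum.inl 0)) 1
  let f₀ : Dual F (Fin (1 + k) → F) := LinearMap.proj (σ (Sum.inr j0))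
  have hf₀ : f₀ ≠ 0 := fun h => (one_ne_zero : (1 : F) ≠ 0) (by
    simpa [f₀] using LinearMap.congr_fun h (Pi.single (σ (Sum.inr j0)) (1 : F)))
  have hu₀ : u₀ ≠ 0 := fun h => (one_ne_zero : (1 : F) ≠ 0) (by
    simpa [u₀] using congrFun h (σ (Sum.inl 0)))
  have hfu₀ : f₀ u₀ = 0 := by simp [f₀, u₀]
  have hM0t : toLin' M0 = LinearMap.transvection f₀ u₀ := LinearMap.ext fun v => funext fun i => by
    rw [LinearMap.transvection.apply, toLin'_apply]
    simp only [hM0d, f₀, LinearMap.proj_apply, Pi.add_apply, Pi.smul_apply, smul_eq_mul]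
    obtain ⟨a, rfl⟩ := σ.surjective i
    simp only [Matrix.mulVec, dotProduct, reindex_apply, submatrix_apply, Equiv.symm_apply_apply]
    rw [← σ.sum_comp, Fintype.sum_sum_type]
    rcases a with a | a
    · simp [u₀, B, Subsingleton.elim a 0, Matrix.single_apply, Finset.sum_ite_eq]
    · simp [u₀, Matrix.one_apply]
  obtain ⟨e, he⟩ := transvection_conj f₀ f u₀ u hf₀ hf hu₀ hu hfu₀ hfu
  set Q := LinearMap.toMatrix' e.toLinearMap
  set Qi := LinearMap.toMatrix' e.symm.toLinearMap
  have hQ : M * Q = Q * M0 := by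
    have h' : toLin' M * e.toLinearMap = e.toLinearMap * toLin' M0 := LinearMap.ext fun v => by
      rw [hAt, hM0t]; exact (he v).symm
    have h'' := congrArg LinearMap.toMatrix' h'
    rwa [LinearMap.toMatrix'_mul, LinearMap.toMatrix'_mul, LinearMap.toMatrix'_toLin',
      LinearMap.toMatrix'_toLin'] at h''
  have hQQ : Q * Qi = 1 := by
    rw [← LinearMap.toMatrix'_mul, Module.End.mul_eq_comp, LinearEquiv.comp_coe,
      LinearEquiv.symm_trans_self, LinearEquiv.refl_toLinearMap, LinearMap.toMatrix'_id]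
  have := CornerPlus.conj' hM0 Q Qi hQQ
  rwa [← hQ, Matrix.mul_assoc, hQQ, Matrix.mul_one] at this

/-- Dimensions four and five over two elements. -/
theorem cornerPlus_small [Fintype F] (h2 : Fintype.card F = 2) {n : ℕ} (hn : n = 4 ∨ n = 5)
    (M : Matrix (Fin n) (Fin n) F) (hM : M.det = 1) (hne : M ≠ 1) (hr : (M - 1).rank < 2) :
    CornerPlus M := by
  have two : (2 : F) = 0 := by
    have := FiniteField.cast_card_eq_zero F
    rw [h2] at this; exact_mod_cast this
  have sq : ∀ x : F, IsSquare x := fun x => ⟨x, by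
    have := FiniteField.pow_card x
    rw [h2, pow_two] at this
    exact this.symm⟩
  have twoX : (2 : F[X]) = 0 := by rw [← map_ofNat Polynomial.C 2, two, map_zero]
  rcases hn with rfl | rfl
  · let C : Matrix (Fin 3) (Fin 3) F := !![0, 0, 1; 1, 0, 1; 0, 1, 0]
    refine cornerPlus_transvection sq (k := 3) (by omega) (C := C) (Φ := X ^ 3 + X + 1) ?_ ?_ ?_ ?_
      M hM hne hr
    · refine ⟨X ^ 3 + X ^ 2 + 1, ⟨3, by compute_degree, ?_⟩, X, X + 1, ?_⟩
      · have e : (X ^ 3 + X + 1 : F[X]) = Polynomial.C 1 * X ^ 3 + Polynomial.C 1 * X ^ 1 +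
            Polynomial.C 1 * X ^ 0 := by simp
        rw [e, reflect_add, reflect_add, reflect_C_mul_X_pow, reflect_C_mul_X_pow,
          reflect_C_mul_X_pow, revAt_le le_rfl, revAt_le (show 1 ≤ 3 by omega),
          revAt_le (Nat.zero_le _)]
        simp
        ring
      · linear_combination (X ^ 4 + X ^ 3 + X ^ 2 + X) * twoX
    · rw [isUnit_iff_ne_zero]; simp [C, Matrix.det_fin_three]
    · ext i j
      simp only [map_add, aeval_X, map_one, pow_succ, pow_zero, one_mul, Matrix.add_apply,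
        Matrix.one_apply, Matrix.zero_apply]
      fin_cases i <;> fin_cases j <;> simp [C] <;> linear_combination two
    · rw [isUnit_iff_ne_zero]; simp [C, Matrix.det_fin_three]
  · let C : Matrix (Fin 4) (Fin 4) F := !![0, 0, 0, 1; 1, 0, 0, 1; 0, 1, 0, 0; 0, 0, 1, 0]
    refine cornerPlus_transvection sq (k := 4) (by omega) (C := C) (Φ := X ^ 4 + X + 1) ?_ ?_ ?_ ?_
      M hM hne hr
    · refine ⟨X ^ 4 + X ^ 3 + 1, ⟨4, by compute_degree, ?_⟩, X ^ 3 + X + 1, X ^ 3 + X ^ 2, ?_⟩
      · have e : (X ^ 4 + X + 1 : F[X]) = Polynomial.C 1 * X ^ 4 + Polynomial.C 1 * X ^ 1 +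
            Polynomial.C 1 * X ^ 0 := by simp
        rw [e, reflect_add, reflect_add, reflect_C_mul_X_pow, reflect_C_mul_X_pow,
          reflect_C_mul_X_pow, revAt_le le_rfl, revAt_le (show 1 ≤ 4 by omega),
          revAt_le (Nat.zero_le _)]
        simp
        ring
      · linear_combination (X ^ 7 + X ^ 6 + X ^ 5 + X ^ 4 + X ^ 3 + X ^ 2 + X) * twoX
    · rw [isUnit_iff_ne_zero]; simp [C, Matrix.det_succ_row_zero, Fin.sum_univ_succ, Matrix.one_apply, Fin.succAbove]
    · ext i j
      simp only [map_add, map_pow, aeval_X, map_one, pow_succ, pow_zero, one_mul, Matrix.add_apply,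
        Matrix.mul_apply, Fin.sum_univ_four, Matrix.one_apply, Matrix.zero_apply]
      fin_cases i <;> fin_cases j <;> simp [C] <;> linear_combination two
    · rw [isUnit_iff_ne_zero]; simp [C, Matrix.det_succ_row_zero, Fin.sum_univ_succ, Matrix.one_apply, Fin.succAbove]

end CfsgLib.KnownB.OreOmegaPlus
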