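import Cfsg.Agent.Lib.KnownB.OreOmegaPlus.MinusOne
import Cfsg.Agent.Lib.KnownB.OreOmegaPlus.CornerEven
import Cfsg.Agent.Lib.KnownB.OreOmega.Three
import Cfsg.Agent.Lib.KnownB.OreOmegaPlus.Transvection

/-!
Every element of `Ω⁺` is a commutator.
-/

set_option autoImplicit false

namespace CfsgLib.KnownB.OreOmegaPlus

open Matrix QuadraticMap CfsgLib.Thompson CfsgLib.Geometry CfsgLib.KnownB.OreOmega

variable {F : Type*} [Field F] [Fintype F] {m : ℕ}

/-- All corners, given those over two elements. -/
theorem corners (hm : 4 ≤ m) (hbin : Fintype.card F = 2 → CornersPlus m F) :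
    CornersPlus m F := by
  intro M hd hM
  by_cases h2 : Fintype.card F = 2
  · exact hbin h2 M hd hM
  have h1 : 1 < Fintype.card F := Fintype.one_lt_card
  rcases Nat.mod_two_eq_zero_or_one (Fintype.card F) with h | h
  · exact (corner_even h (by omega) (by omega) M hd hM).plus
  · by_cases h3 : Fintype.card F = 3
    · exact (corner_three h3 hm M hd hM).plus
    · exact (corner_big h (by omega) (by omega) M hd hM).plus

/-- Binary corners from those away from the small transvections. -/
theorem binary_of (hm : 4 ≤ m) (h2 : Fintype.card F = 2)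
    (hc : ∀ M : Matrix (Fin m) (Fin m) F, M.det = 1 → (6 ≤ m ∨ M = 1 ∨ 2 ≤ (M - 1).rank) →
      Corner M) : CornersPlus m F := by
  intro M hd _
  by_cases h : 6 ≤ m ∨ M = 1 ∨ 2 ≤ (M - 1).rank
  · exact (hc M hd h).plus
  · simp only [not_or, not_le] at h
    exact cornerPlus_small h2 (by omega) M hd h.2.1 h.2.2

/-- Every element of `Ω⁺` in dimension at least eight is a commutator, given the binary corners. -/
theorem ore_omega_plus_of (hm : 4 ≤ m) (hbin : Fintype.card F = 2 → CornersPlus m F)
    (g : Cfsg.Omega F (Cfsg.quadFormPlus m F)) :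
    ∃ a b : Cfsg.Omega F (Cfsg.quadFormPlus m F), g = a * b * a⁻¹ * b⁻¹ := by
  revert g
  rw [← coe_matQuad_plus]
  intro g
  have hF : GoodForm (qP m F) := good_form (by omega)
  have hg : hF.invt g.1 = 1 := (hF.mem_Omega g.1).1 g.2
  obtain ⟨a, b, ha, hb, e⟩ : ∃ a b : Cfsg.isometryGroup F ⇑(qP m F),
      hF.invt a = 1 ∧ hF.invt b = 1 ∧ g.1 = a * b * a⁻¹ * b⁻¹ := by
    by_cases h : g.1.1.1 = -1
    · by_cases h2 : (2 : F) = 0
      · refine ⟨1, 1, map_one _, map_one _, ?_⟩
        rw [show g.1 = 1 from Subtype.ext (Units.ext (h.trans ?_))]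
        · group
        · show (-1 : Matrix (Fin m ⊕ Fin m) (Fin m ⊕ Fin m) F) = 1
          ext i j
          rw [Matrix.neg_apply, Matrix.one_apply]
          split_ifs
          · linear_combination -h2
          · exact neg_zero
      · exact comm_neg_one hF hm h2 hg h
    · exact comm_of_corners hF (by omega) (corners hm hbin) hg h
  exact ⟨⟨a, (hF.mem_Omega a).2 ha⟩, ⟨b, (hF.mem_Omega b).2 hb⟩, Subtype.ext e⟩

end CfsgLib.KnownB.OreOmegaPlus
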