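import Cfsg.Agent.Lib.KnownB.OreOmegaPlus.Glue

/-!
Minus the identity as a commutator in `Ω⁺`.
-/

set_option autoImplicit false

namespace CfsgLib.KnownB.OreOmegaPlus

open Matrix QuadraticMap CfsgLib.Thompson CfsgLib.Geometry

variable {F : Type*} [Field F] {m : ℕ}

/-- The diagonal element `d` at the place `l`. -/
noncomputable def dg (l : Fin m) (d : F) (hd : d ≠ 0) : GL (Fin m) F :=
  Matrix.GeneralLinearGroup.mkOfDetNeZero (diagonal (Function.update (1 : Fin m → F) l d)) (by
    rw [det_diagonal, Finset.prod_update_of_mem (Finset.mem_univ _)]; simpa using hd)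

theorem dg_val (l : Fin m) (d : F) (hd : d ≠ 0) :
    (dg l d hd).1 = diagonal (Function.update (1 : Fin m → F) l d) := rfl

theorem det_dg (l : Fin m) (d : F) (hd : d ≠ 0) : (dg l d hd).1.det = d := by
  rw [dg_val, det_diagonal, Finset.prod_update_of_mem (Finset.mem_univ _)]; simp

/-- A diagonal element at `l` commutes with what fixes the `l`-th basis vector. -/
theorem dg_comm {l : Fin m} {d : F} (hd : d ≠ 0) {B : GL (Fin m) F}
    (hc : B.1 *ᵥ Pi.single l 1 = Pi.single l 1) (hr : B.1ᵀ *ᵥ Pi.single l 1 = Pi.single l 1) :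
    Commute (dg l d hd) B := by
  refine Units.ext ?_
  rw [Units.val_mul, Units.val_mul, dg_val]
  ext a b
  rw [diagonal_mul, mul_diagonal]
  rcases eq_or_ne a b with rfl | hab
  · ring
  · by_cases h1 : a = l
    · subst h1
      have := congrFun hr b
      rw [mulVec_single_one, col_apply, transpose_apply, Pi.single_apply, if_neg hab.symm] at this
      rw [this]; ring
    · by_cases h2 : b = l
      · subst h2
        have := congrFun hc a
        rw [mulVec_single_one, col_apply, Pi.single_apply, if_neg hab] at this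
        rw [this]; ring
      · rw [Function.update_of_ne h1, Function.update_of_ne h2]; simp

/-- The exchange of the `l`-th pair inverts the diagonal element at `l`. -/
theorem swap_dg [Finite F] (l : Fin m) {d : F} (hd : d ≠ 0) :
    (1 : Matrix (Fin m ⊕ Fin m) (Fin m ⊕ Fin m) F).submatrix (swapFun m l) id *
        (levH F m (dg l d hd)).1 =
      (levH F m (dg l d⁻¹ (inv_ne_zero hd))).1 *
        (1 : Matrix (Fin m ⊕ Fin m) (Fin m ⊕ Fin m) F).submatrix (swapFun m l) id := by
  rw [levH_val, levH_val, ti_diag (dg_val l d hd), ti_diag (dg_val l d⁻¹ _), dg_val, dg_val,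
    fromBlocks_diagonal, fromBlocks_diagonal]
  ext a b
  rw [mul_diagonal, diagonal_mul, submatrix_apply, id_eq]
  by_cases h : swapFun m l a = b
  · subst h
    rw [one_apply_eq, one_mul, mul_one]
    rcases a with a | a <;> by_cases ha : a = l
    · subst ha; simp [swapFun]
    · simp [swapFun, Equiv.swap_apply_of_ne_of_ne, ha]
    · subst ha; simp [swapFun]
    · simp [swapFun, Equiv.swap_apply_of_ne_of_ne, ha]
  · rw [one_apply_ne h, zero_mul, mul_zero]

variable [Fintype F] (hF : GoodForm (qP m F))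

include hF

/-- The commutator from a Levi element and two exchanges. -/
theorem neg_one_of_data (hm : 3 ≤ m) {i : F} (hi : i ≠ 0) {j l : Fin m} {B P : GL (Fin m) F}
    (hjl : j ≠ l) (hjc : B.1 *ᵥ Pi.single j 1 = Pi.single j 1)
    (hjr : B.1ᵀ *ᵥ Pi.single j 1 = Pi.single j 1)
    (hlc : B.1 *ᵥ Pi.single l 1 = Pi.single l 1) (hlr : B.1ᵀ *ᵥ Pi.single l 1 = Pi.single l 1)
    (hP : P.1 * (B * dg l i⁻¹ (inv_ne_zero hi)).1 = -((B * dg l i hi).1 * P.1))
    (hsq : IsSquare (B.1.det * i)) {g : Cfsg.isometryGroup F ⇑(qP m F)} (hg : g.1.1 = -1) :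
    ∃ a b : Cfsg.isometryGroup F ⇑(qP m F),
      hF.invt a = 1 ∧ hF.invt b = 1 ∧ g = a * b * a⁻¹ * b⁻¹ := by
  set A := B * dg l i hi with hA
  set A' := B * dg l i⁻¹ (inv_ne_zero hi) with hA'
  obtain ⟨s, c, hs, hs'⟩ := exists_swap hF l
  obtain ⟨t, c', ht, ht'⟩ := exists_swap hF j
  have hsA : s * levO m F A = levO m F A' * s := by
    refine Subtype.ext (Units.ext ?_)
    show s.1.1 * (levH F m A).1 = (levH F m A').1 * s.1.1
    rw [hs', hA, hA', map_mul, map_mul, Units.val_mul, Units.val_mul, ← Matrix.mul_assoc,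
      swap_comm hlc hlr, Matrix.mul_assoc, swap_dg, Matrix.mul_assoc]
  have htA : t * levO m F A = levO m F A * t := by
    refine Subtype.ext (Units.ext ?_)
    show t.1.1 * (levH F m A).1 = (levH F m A).1 * t.1.1
    rw [ht']
    refine swap_comm ?_ ?_
    · rw [hA, Units.val_mul, ← mulVec_mulVec, dg_val]
      conv_lhs => arg 2; rw [show diagonal (Function.update (1 : Fin m → F) l i) *ᵥ Pi.single j 1 =
        Pi.single j 1 by
          funext a; rw [mulVec_diagonal]
          by_cases ha : a = j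
          · subst ha; simp [hjl]
          · simp [ha]]
      exact hjc
    · rw [hA, Units.val_mul, transpose_mul, ← mulVec_mulVec, hjr, dg_val, diagonal_transpose]
      funext a; rw [mulVec_diagonal]
      by_cases ha : a = j
      · subst ha; simp [hjl]
      · simp [ha]
  have hneg : (levH F m (P * A' * P⁻¹)).1 = -(levH F m A).1 := by
    have e1 : (P * A' * P⁻¹).1 = -A.1 := by
      rw [Units.val_mul, Units.val_mul, hP, Matrix.neg_mul, Matrix.mul_assoc, Units.mul_inv,
        Matrix.mul_one]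
    have e2 : (P * A' * P⁻¹)⁻¹.1 = -(A⁻¹).1 := by
      have h := congrArg (· * -(A⁻¹).1) e1
      simp only [Matrix.neg_mul, Matrix.mul_neg, neg_neg, Units.mul_inv] at h
      exact left_inv_eq_right_inv (Units.inv_mul _) (by rw [Matrix.mul_neg]; exact h)
    rw [levH_val, levH_val, fromBlocks_neg]
    congr 1
    · simp
    · simp
    · rw [ti_val, ti_val, e2, transpose_neg]
  have hdA : hF.invt (levO m F A) = 1 := by
    refine invt_levi_square hF hm A ?_
    rwa [hA, Units.val_mul, det_mul, det_dg]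
  have hd0 : hF.invt (levO m F P * s * t) = ((hF.invt (levO m F P)).1 * c * c', 1) := by
    rw [map_mul, map_mul, hs, ht]
    refine Prod.ext rfl ?_
    rw [Prod.snd_mul, Prod.snd_mul,
      invt_levi hF hm P ((Matrix.isUnit_iff_isUnit_det _).1 P.isUnit).ne_zero rfl, one_mul]
    exact (by decide : ∀ z : Multiplicative (ZMod 2), z = Multiplicative.ofAdd 1 → z * z = 1) _ rfl
  obtain ⟨u, hu⟩ := sqHom_surjective (((hF.invt (levO m F P)).1 * c * c')⁻¹)
  let D := dg l (u : F) u.ne_zero
  have hDA : levO m F D * levO m F A = levO m F A * levO m F D := by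
    rw [← map_mul, ← map_mul]
    congr 1
    rw [hA, ← mul_assoc, (dg_comm u.ne_zero hlc hlr).eq, mul_assoc, mul_assoc]
    congr 1
    refine Units.ext ?_
    rw [Units.val_mul, Units.val_mul, dg_val, dg_val, diagonal_mul_diagonal, diagonal_mul_diagonal]
    congr 1
    funext a
    exact mul_comm _ _
  refine ⟨levO m F A, levO m F P * s * t * levO m F D, hdA, ?_, ?_⟩
  · rw [map_mul, hd0, invt_levi hF hm D u.ne_zero (det_dg l _ _), Prod.mk_mul_mk, one_mul]
    refine Prod.ext ?_ rfl
    change _ * sqMk u.ne_zero = 1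
    rw [show sqMk u.ne_zero = sqHom F u by rw [sqMk, Units.mk0_val], hu, mul_inv_cancel]
  · set a := levO m F A with ha
    set b := levO m F P * s * t * levO m F D with hb
    have hba : b * a * b⁻¹ = levO m F (P * A' * P⁻¹) := by
      rw [hb, map_mul, map_mul, map_inv]
      calc levO m F P * s * t * levO m F D * a * (levO m F P * s * t * levO m F D)⁻¹
          = levO m F P * s * t * (levO m F D * a) * (levO m F D)⁻¹ * t⁻¹ * s⁻¹ *
              (levO m F P)⁻¹ := by group
        _ = levO m F P * s * (t * a) * t⁻¹ * s⁻¹ * (levO m F P)⁻¹ := by rw [hDA]; group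
        _ = levO m F P * (s * a) * s⁻¹ * (levO m F P)⁻¹ := by rw [htA]; group
        _ = levO m F P * levO m F A' * (levO m F P)⁻¹ := by rw [hsA]; group
    have hneg' : g * (b * a * b⁻¹) = a := by
      refine Subtype.ext (Units.ext ?_)
      rw [hba]
      show g.1.1 * (levH F m (P * A' * P⁻¹)).1 = (levH F m A).1
      rw [hg, hneg, neg_mul_neg, Matrix.one_mul]
    calc g = g * (b * a * b⁻¹) * (b * a * b⁻¹)⁻¹ := by group
      _ = a * b * a⁻¹ * b⁻¹ := by rw [hneg']; group

/-- `-1` is a commutator when it lies in `Ω`. -/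
theorem comm_neg_one (hm : 4 ≤ m) (h2 : (2 : F) ≠ 0) {g : Cfsg.isometryGroup F ⇑(qP m F)}
    (hg : hF.invt g = 1) (hv : g.1.1 = -1) :
    ∃ a b : Cfsg.isometryGroup F ⇑(qP m F),
      hF.invt a = 1 ∧ hF.invt b = 1 ∧ g = a * b * a⁻¹ * b⁻¹ := by
  have hN : ((-1 : GL (Fin m) F)).1.det = (-1) ^ m := by
    rw [Units.val_neg, Units.val_one, det_neg, det_one, mul_one, Fintype.card_fin]
  have hgN : g = levO m F (-1) := by
    refine Subtype.ext (Units.ext ?_)
    show g.1.1 = (levH F m (-1)).1
    rw [hv, levH_val, ← fromBlocks_one, fromBlocks_neg]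
    simp [ti_val]
  rcases Nat.even_or_odd m with hev | hodd
  · obtain ⟨a, b, e⟩ := Sourour.commutator_all (show 2 ≤ m by omega) (fun h => by omega)
      (⟨(-1 : GL (Fin m) F).1, by rw [hN, hev.neg_one_pow]⟩ : Matrix.SpecialLinearGroup (Fin m) F)
    refine ⟨levO m F (Matrix.SpecialLinearGroup.toGL a), levO m F (Matrix.SpecialLinearGroup.toGL b),
      invt_sl hF (by omega) a.2, invt_sl hF (by omega) b.2, ?_⟩
    rw [hgN, ← map_inv (levO m F), ← map_inv (levO m F), ← map_mul, ← map_mul, ← map_mul]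
    congr 1
    rw [← map_inv, ← map_inv, ← map_mul, ← map_mul, ← map_mul, ← e]
    exact Units.ext rfl
  rw [hgN, invt_levi hF (by omega) _ (neg_ne_zero.2 (one_ne_zero : (1 : F) ≠ 0))
    (hN.trans hodd.neg_one_pow)] at hg
  obtain ⟨i, hi⟩ := (sqMk_eq_one_iff _).1 (congrArg Prod.fst hg)
  have hi0 : i ≠ 0 := fun h => by simp [h] at hi
  obtain ⟨t, ht, ht2⟩ : ∃ t, m = 2 * t + 1 ∧ 2 ≤ t := by
    obtain ⟨t, rfl⟩ := hodd
    exact ⟨t, rfl, by omega⟩
  let σ : ((Fin 2 × Fin t) ⊕ Fin 1) ≃ Fin m :=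
    ((Equiv.sumCongr finProdFinEquiv (Equiv.refl _)).trans finSumFinEquiv).trans (finCongr ht.symm)
  let k1 : Fin t := ⟨1, by omega⟩
  let k0 : Fin t := ⟨0, by omega⟩
  let u : F := (1 - i) / 2
  let w : F := (1 + i) / 2
  let J : Matrix (Fin 2) (Fin 2) F := !![1, 0; 0, -1]
  let R : Matrix (Fin 2) (Fin 2) F := !![u, w; -w, -u]
  let S : Matrix (Fin 2) (Fin 2) F := !![0, 1; 1, 0]
  let T : Matrix (Fin 2) (Fin 2) F := !![-1, 0; 0, 1]
  let Bk : Fin t → Matrix (Fin 2) (Fin 2) F := fun k => if k = k0 then J else if k = k1 then R else J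
  let B₀ := reindex σ σ (fromBlocks (blockDiagonal Bk) 0 0 (1 : Matrix (Fin 1) (Fin 1) F))
  let P₀ := reindex σ σ (fromBlocks (blockDiagonal fun _ : Fin t => S) 0 0
    (1 : Matrix (Fin 1) (Fin 1) F))
  have hR : R.det = i := by
    rw [Matrix.det_fin_two_of]
    simp only [u, w]
    field_simp
    ring
  have hJ : J.det = -1 := by rw [Matrix.det_fin_two_of]; ring
  have hBd : B₀.det = ∏ k, (Bk k).det := by
    simp [B₀, det_blockDiagonal]
  have hBk : ∏ k, (Bk k).det = i * (-1) ^ (t - 1) := by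
    rw [← Finset.mul_prod_erase Finset.univ _ (Finset.mem_univ k1),
      Finset.prod_congr rfl (g := fun _ => (-1 : F)) fun k hk => by
        simp [Bk, Finset.ne_of_mem_erase hk, hJ],
      Finset.prod_const, Finset.card_erase_of_mem (Finset.mem_univ _), Finset.card_univ,
      Fintype.card_fin]
    simp [Bk, k0, k1, hR]
  have hPd : P₀.det ≠ 0 := by
    simp [P₀, det_blockDiagonal, S, Matrix.det_fin_two_of]
  let B := Matrix.GeneralLinearGroup.mkOfDetNeZero B₀ (by
    rw [hBd, hBk]; exact mul_ne_zero hi0 (pow_ne_zero _ (neg_ne_zero.2 one_ne_zero)))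
  let P := Matrix.GeneralLinearGroup.mkOfDetNeZero P₀ hPd
  set l : Fin m := σ (Sum.inr 0) with hl
  set j : Fin m := σ (Sum.inl (0, k0)) with hj
  have hjl : j ≠ l := fun h => by simpa using σ.injective h
  have col : ∀ (x : (Fin 2 × Fin t) ⊕ Fin 1),
      (∀ y, fromBlocks (blockDiagonal Bk) 0 0 (1 : Matrix (Fin 1) (Fin 1) F) y x =
        if y = x then 1 else 0) →
      (∀ y, fromBlocks (blockDiagonal Bk) 0 0 (1 : Matrix (Fin 1) (Fin 1) F) x y =
        if y = x then 1 else 0) →
      B₀ *ᵥ Pi.single (σ x) 1 = Pi.single (σ x) 1 ∧ B₀ᵀ *ᵥ Pi.single (σ x) 1 = Pi.single (σ x) 1 := by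
    intro x h1 h2
    constructor <;> funext a <;> obtain ⟨a, rfl⟩ := σ.surjective a <;>
      simp only [B₀, mulVec_single_one, col_apply, transpose_apply, reindex_apply, submatrix_apply,
        Equiv.symm_apply_apply, Pi.single_apply, EmbeddingLike.apply_eq_iff_eq, h1, h2]
  obtain ⟨hlc, hlr⟩ := col (Sum.inr 0)
    (fun y => by
      rcases y with y | y
      · simp
      · simp [Subsingleton.elim y 0])
    (fun y => by
      rcases y with y | y
      · simp
      · simp [Subsingleton.elim y 0])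
  obtain ⟨hjc, hjr⟩ := col (Sum.inl (0, k0))
    (fun y => by
      rcases y with ⟨y, k⟩ | y
      · fin_cases y <;> by_cases hk : k = k0 <;> simp [Bk, J, blockDiagonal_apply, hk]
      · simp)
    (fun y => by
      rcases y with ⟨y, k⟩ | y
      · fin_cases y <;> by_cases hk : k = k0 <;>
          simp [Bk, J, blockDiagonal_apply, hk, Ne.symm]
      · simp)
  have hD : ∀ (d : F) (hd : d ≠ 0), (dg l d hd).1 = reindex σ σ
      (fromBlocks 1 0 0 (d • (1 : Matrix (Fin 1) (Fin 1) F))) := by
    intro d hd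
    ext a b
    obtain ⟨a, rfl⟩ := σ.surjective a
    obtain ⟨b, rfl⟩ := σ.surjective b
    simp only [dg_val, reindex_apply, submatrix_apply, Equiv.symm_apply_apply, hl, diagonal_apply,
      EmbeddingLike.apply_eq_iff_eq]
    rcases a with a | a <;> rcases b with b | b
    · simp [Matrix.one_apply]
    · simp
    · simp
    · simp [Subsingleton.elim a 0, Subsingleton.elim b 0]
  have hbd : blockDiagonal (fun _ : Fin t => S) * blockDiagonal Bk =
      -(blockDiagonal Bk * blockDiagonal fun _ : Fin t => S) := by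
    rw [← blockDiagonal_mul, ← blockDiagonal_mul, ← blockDiagonal_neg]
    congr 1
    funext k
    simp only [Bk, Pi.neg_apply]
    split_ifs <;> ext p q <;> fin_cases p <;> fin_cases q <;>
      simp [S, J, R, Matrix.mul_apply, Fin.sum_univ_two]
  have hii : i⁻¹ = -i := inv_eq_of_mul_eq_one_right (by linear_combination hi)
  refine neg_one_of_data hF (by omega) hi0 (B := B) (P := P) hjl hjc hjr hlc hlr ?_ ?_ hv
  · rw [Units.val_mul, Units.val_mul, hD, hD]
    show P₀ * (B₀ * _) = -(B₀ * _ * P₀)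
    simp only [B₀, P₀, reindex_apply, submatrix_mul_equiv, fromBlocks_multiply, Matrix.mul_zero,
      Matrix.zero_mul, Matrix.mul_one, Matrix.one_mul, add_zero, zero_add, hii, neg_smul, hbd]
    ext a b
    simp only [submatrix_apply, Matrix.neg_apply]
    rw [← Matrix.neg_apply, fromBlocks_neg, neg_zero]
    simp
  · show IsSquare (B₀.det * i)
    rw [hBd, hBk, show i * (-1 : F) ^ (t - 1) * i = (-1 : F) ^ (t - 1) * (i * i) by ring, ← hi]
    rcases Nat.even_or_odd (t - 1) with h | h
    · rw [h.neg_one_pow, one_mul]; exact ⟨i, hi⟩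
    · rw [h.neg_one_pow]; exact ⟨1, by ring⟩

end CfsgLib.KnownB.OreOmegaPlus
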